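import Groth.Agent.Gorenstein.InjDim
import Mathlib.Algebra.Module.Torsion.Basic

/-!
# `Ext` along the quotient by a nonzerodivisor

For a nonzerodivisor `x` of `R` and a module `M` on which `x` is regular, vanishing of
`Ext^(i+2)_R(N, M)` is equivalent to vanishing of `Ext^(i+1)_(R/x)(N, M/xM)` for `x`-killed `N`.
Helper library (no milestone statements here).
-/

universe u

open CategoryTheory
open scoped Pointwise

namespace GrothGoren

variable {R : Type u} [CommRing R]

theorem extZ_shift {A B C N : Type u} [AddCommGroup A] [Module R A] [AddCommGroup B] [Module R B]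
    [AddCommGroup C] [Module R C] [AddCommGroup N] [Module R N] {f : A →ₗ[R] B} {g : B →ₗ[R] C}
    (hex : Function.Exact f g) (hf : Function.Injective f) (hg : Function.Surjective g)
    [Module.Injective R B] (i : ℕ) : ExtZ R N A (i + 2) ↔ ExtZ R N C (i + 1) :=
  ⟨fun h => extZ_right hex hf hg extZ_of_injective h,
    fun h => extZ_left hex hf hg h extZ_of_injective⟩

/-- Restricting a map to the `b`-torsion, linearly over `R ⧸ b`. -/
def torsionMap (b : Ideal R) {U V : Type u} [AddCommGroup U] [Module R U] [AddCommGroup V]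
    [Module R V] (φ : U →ₗ[R] V) : LocCoh.torsionBy b U →ₗ[R ⧸ b] LocCoh.torsionBy b V where
  toFun c := ⟨φ c, (Submodule.mem_torsionBySet_iff _ _).2 fun r => by
    rw [← map_smul, (Submodule.mem_torsionBySet_iff _ _).1 c.2 r, map_zero]⟩
  map_add' a c := Subtype.ext (map_add φ (a : U) c)
  map_smul' q c := by
    obtain ⟨r, rfl⟩ := Ideal.Quotient.mk_surjective q
    exact Subtype.ext (map_smul φ r (c : U))

@[simp] theorem torsionMap_apply (b : Ideal R) {U V : Type u} [AddCommGroup U] [Module R U]
    [AddCommGroup V] [Module R V] (φ : U →ₗ[R] V) (c : LocCoh.torsionBy b U) :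
    (torsionMap b φ c : V) = φ c := rfl

section Hom

variable (b : Ideal R) {N C : Type u} [AddCommGroup N] [Module R N] [Module (R ⧸ b) N]
  [IsScalarTower R (R ⧸ b) N] [AddCommGroup C] [Module R C]

/-- Maps from an `R ⧸ b`-module land in the `b`-torsion. -/
def homToTorsion (φ : N →ₗ[R] C) : N →ₗ[R ⧸ b] LocCoh.torsionBy b C where
  toFun n := ⟨φ n, (Submodule.mem_torsionBySet_iff _ _).2 fun r => by
    rw [← map_smul, ← algebraMap_smul (R ⧸ b) (r : R) n, Ideal.Quotient.algebraMap_eq,
      Ideal.Quotient.eq_zero_iff_mem.2 r.2, zero_smul, map_zero]⟩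
  map_add' x y := Subtype.ext (map_add φ x y)
  map_smul' q x := by
    obtain ⟨r, rfl⟩ := Ideal.Quotient.mk_surjective q
    refine Subtype.ext ?_
    show φ (Ideal.Quotient.mk b r • x) = r • φ x
    rw [← Ideal.Quotient.algebraMap_eq, algebraMap_smul, map_smul]

/-- Forget the torsion condition. -/
def torsionToHom (ψ : N →ₗ[R ⧸ b] LocCoh.torsionBy b C) : N →ₗ[R] C where
  toFun n := ψ n
  map_add' x y := by rw [map_add]; rfl
  map_smul' r x := by
    show (ψ (r • x) : C) = r • (ψ x : C)
    rw [← algebraMap_smul (R ⧸ b) r x, map_smul, Ideal.Quotient.algebraMap_eq]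
    rfl

theorem homToTorsion_torsionToHom (ψ : N →ₗ[R ⧸ b] LocCoh.torsionBy b C) :
    homToTorsion b (torsionToHom b ψ) = ψ := rfl

theorem torsionToHom_homToTorsion (φ : N →ₗ[R] C) :
    torsionToHom b (homToTorsion b φ) = φ := rfl

/-- The `b`-torsion of an injective is injective over `R ⧸ b`. -/
theorem injective_torsion {J : Type u} [AddCommGroup J] [Module R J] (hJ : Module.Injective R J) :
    Module.Injective (R ⧸ b) (LocCoh.torsionBy b J) := by
  refine ⟨fun X Y _ _ _ _ i hi φ => ?_⟩
  letI : Module R X := Module.compHom X (Ideal.Quotient.mk b)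
  letI : Module R Y := Module.compHom Y (Ideal.Quotient.mk b)
  haveI : IsScalarTower R (R ⧸ b) X := IsScalarTower.of_algebraMap_smul fun _ _ => rfl
  haveI : IsScalarTower R (R ⧸ b) Y := IsScalarTower.of_algebraMap_smul fun _ _ => rfl
  obtain ⟨k, hk⟩ := hJ.out (i.restrictScalars R) hi (torsionToHom b φ)
  exact ⟨homToTorsion b k, fun x => Subtype.ext (hk x)⟩

end Hom

variable (x : R)

/-- `x`-divisibility. -/
def IsDiv (C : Type u) [AddCommGroup C] [Module R C] : Prop :=
  Function.Surjective fun c : C => x • c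

theorem isDiv_of_injective (hx : IsSMulRegular R x) {J : Type u} [AddCommGroup J] [Module R J]
    (hJ : Module.Injective R J) : IsDiv x J := by
  intro y
  obtain ⟨k, hk⟩ := (GrothMatlis.baer hJ).extension_property (LinearMap.mulLeft R x)
    (fun a c h => hx h) (LinearMap.toSpanSingleton R J y)
  refine ⟨k 1, ?_⟩
  have := LinearMap.congr_fun hk 1
  rw [LinearMap.comp_apply, LinearMap.mulLeft_apply, mul_one, LinearMap.toSpanSingleton_apply,
    one_smul] at this
  show x • k 1 = y
  rw [← this, ← map_smul, smul_eq_mul, mul_one]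

theorem isDiv_of_surjective {U V : Type u} [AddCommGroup U] [Module R U] [AddCommGroup V]
    [Module R V] {g : U →ₗ[R] V} (hg : Function.Surjective g) (hU : IsDiv x U) : IsDiv x V := by
  intro v
  obtain ⟨u, rfl⟩ := hg v
  obtain ⟨w, rfl⟩ := hU u
  exact ⟨g w, (map_smul g x w).symm⟩

theorem mem_torsion_span_iff {C : Type u} [AddCommGroup C] [Module R C] {c : C} :
    c ∈ LocCoh.torsionBy (Ideal.span {x}) C ↔ x • c = 0 := by
  rw [Submodule.mem_torsionBySet_iff]
  refine ⟨fun h => h ⟨x, Ideal.mem_span_singleton_self x⟩, fun h => ?_⟩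
  rintro ⟨r, hr⟩
  obtain ⟨s, rfl⟩ := Ideal.mem_span_singleton'.1 hr
  show (s * x) • c = 0
  rw [mul_smul, h, smul_zero]

/-- Torsion of a short exact sequence with divisible first term is short exact. -/
theorem torsion_exact {A B C : Type u} [AddCommGroup A] [Module R A] [AddCommGroup B] [Module R B]
    [AddCommGroup C] [Module R C] {f : A →ₗ[R] B} {g : B →ₗ[R] C} (hex : Function.Exact f g)
    (hf : Function.Injective f) (hg : Function.Surjective g) (hA : IsDiv x A) :
    Function.Exact (torsionMap (Ideal.span {x}) f) (torsionMap (Ideal.span {x}) g) ∧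
      Function.Injective (torsionMap (Ideal.span {x}) f) ∧
      Function.Surjective (torsionMap (Ideal.span {x}) g) := by
  refine ⟨fun y => ⟨fun h => ?_, ?_⟩, fun a c h => Subtype.ext (hf (congrArg Subtype.val h)),
    fun c => ?_⟩
  · obtain ⟨a, ha⟩ := (hex (y : B)).1 (congrArg Subtype.val h)
    have : a ∈ LocCoh.torsionBy (Ideal.span {x}) A := (mem_torsion_span_iff x).2
      (hf (by rw [map_smul, ha, map_zero, (mem_torsion_span_iff x).1 y.2]))
    exact ⟨⟨a, this⟩, Subtype.ext ha⟩
  · rintro ⟨a, rfl⟩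
    exact Subtype.ext (hex.apply_apply_eq_zero _)
  · obtain ⟨y, hy⟩ := hg (c : C)
    obtain ⟨a, ha⟩ := (hex (x • y)).1 (by rw [map_smul, hy, (mem_torsion_span_iff x).1 c.2])
    obtain ⟨a', ha'⟩ := hA a
    refine ⟨⟨y - f a', (mem_torsion_span_iff x).2 ?_⟩, Subtype.ext ?_⟩
    · rw [smul_sub, ← map_smul, show x • a' = a from ha', ha, sub_self]
    · show g (y - f a') = c
      rw [map_sub, hy, hex.apply_apply_eq_zero, sub_zero]

theorem extZ_divisible_iff (hx : IsSMulRegular R x) (N : Type u) [AddCommGroup N] [Module R N]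
    [Module (R ⧸ Ideal.span {x}) N] [IsScalarTower R (R ⧸ Ideal.span {x}) N] :
    ∀ (i : ℕ) (C : Type u) [AddCommGroup C] [Module R C], IsDiv x C →
      (ExtZ R N C i ↔ ExtZ (R ⧸ Ideal.span {x}) N (LocCoh.torsionBy (Ideal.span {x}) C) i) := by
  intro i
  induction i using Nat.strong_induction_on with
  | _ i ih =>
  intro C _ _ hC
  match i with
  | 0 =>
    rw [extZ_zero_iff, extZ_zero_iff]
    refine ⟨fun h => ⟨fun a c => ?_⟩, fun h => ⟨fun a c => ?_⟩⟩
    · rw [← homToTorsion_torsionToHom _ a, ← homToTorsion_torsionToHom _ c,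
        Subsingleton.elim (torsionToHom _ a) (torsionToHom _ c)]
    · rw [← torsionToHom_homToTorsion (Ideal.span {x}) a,
        ← torsionToHom_homToTorsion (Ideal.span {x}) c,
        Subsingleton.elim (homToTorsion (Ideal.span {x}) a) (homToTorsion (Ideal.span {x}) c)]
  | k + 1 =>
    obtain ⟨J, _, _, j, hj, hJ⟩ := exists_injective_sequence R C
    have hex := LinearMap.exact_map_mkQ_range j
    have hsurj := Submodule.mkQ_surjective (LinearMap.range j)
    obtain ⟨hexT, hfT, hgT⟩ := torsion_exact x hex hj hsurj hC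
    haveI := injective_torsion (Ideal.span {x}) hJ
    match k with
    | 0 =>
      rw [extZ_one_iff hex hj hsurj, extZ_one_iff hexT hfT hgT]
      constructor
      · intro h ψ
        obtain ⟨v, hv⟩ := h (torsionToHom _ ψ)
        exact ⟨homToTorsion _ v, LinearMap.ext fun n => Subtype.ext (LinearMap.congr_fun hv n)⟩
      · intro h φ
        obtain ⟨v, hv⟩ := h (homToTorsion _ φ)
        exact ⟨torsionToHom _ v, LinearMap.ext fun n => congrArg Subtype.val (LinearMap.congr_fun hv n)⟩
    | l + 1 =>
      rw [extZ_shift hex hj hsurj l, extZ_shift hexT hfT hgT l]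
      exact ih (l + 1) (by omega) _ (isDiv_of_surjective x hsurj (isDiv_of_injective x hx hJ))

/-- Change of rings along a nonzerodivisor. -/
theorem extZ_quotient_iff (hx : IsSMulRegular R x) (N : Type u) [AddCommGroup N] [Module R N]
    [Module (R ⧸ Ideal.span {x}) N] [IsScalarTower R (R ⧸ Ideal.span {x}) N]
    (M : Type u) [AddCommGroup M] [Module R M] (hM : IsSMulRegular M x) (i : ℕ) :
    ExtZ R N M (i + 2) ↔
      ExtZ (R ⧸ Ideal.span {x}) N (M ⧸ (Ideal.span {x} • ⊤ : Submodule R M)) (i + 1) := by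
  obtain ⟨J, _, _, j, hj, hJ⟩ := exists_injective_sequence R M
  have hex := LinearMap.exact_map_mkQ_range j
  have hsurj := Submodule.mkQ_surjective (LinearMap.range j)
  have hdivJ := isDiv_of_injective x hx hJ
  rw [extZ_shift hex hj hsurj i,
    extZ_divisible_iff x hx N (i + 1) _ (isDiv_of_surjective x hsurj hdivJ)]
  haveI := injective_torsion (Ideal.span {x}) hJ
  let b := Ideal.span {x}
  let C := J ⧸ LinearMap.range j
  let S : Submodule R M := b • ⊤
  have hS : ∀ m, m ∈ S ↔ ∃ m', x • m' = m := fun m => by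
    rw [show S = x • (⊤ : Submodule R M) from Submodule.ideal_span_singleton_smul x ⊤,
      Submodule.mem_smul_pointwise_iff_exists]
    simp
  -- the connecting map `C[x] → M / xM`
  have hex1 : ∀ c : LocCoh.torsionBy b C, ∃ y m, Submodule.Quotient.mk y = (c : C) ∧ x • y = j m := by
    intro c
    obtain ⟨y, hy⟩ := hsurj (c : C)
    obtain ⟨m, hm⟩ := (hex (x • y)).1 (by rw [map_smul, hy, (mem_torsion_span_iff x).1 c.2])
    exact ⟨y, m, hy, hm.symm⟩
  choose y m hy hm using hex1
  have hwd : ∀ (c : LocCoh.torsionBy b C) (y' : J) (m' : M), Submodule.Quotient.mk y' = (c : C) →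
      x • y' = j m' → Submodule.Quotient.mk (p := S) (m c) = Submodule.Quotient.mk m' := by
    intro c y' m' h1 h2
    rw [Submodule.Quotient.eq, hS]
    obtain ⟨d, hd⟩ : y c - y' ∈ LinearMap.range j := by
      rw [← Submodule.Quotient.eq, hy, h1]
    exact ⟨d, hj (by rw [map_smul, hd, smul_sub, hm, h2, map_sub])⟩
  let δ : LocCoh.torsionBy b C →ₗ[R ⧸ b] M ⧸ S :=
    { toFun := fun c => Submodule.Quotient.mk (m c)
      map_add' := fun c c' => by
        rw [← Submodule.Quotient.mk_add]
        exact hwd _ (y c + y c') _ (by rw [Submodule.Quotient.mk_add, hy, hy]; rfl)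
          (by rw [smul_add, hm, hm, map_add])
      map_smul' := fun q c => by
        obtain ⟨r, rfl⟩ := Ideal.Quotient.mk_surjective q
        show _ = r • Submodule.Quotient.mk (p := S) (m c)
        rw [← Submodule.Quotient.mk_smul]
        exact hwd _ (r • y c) _ (by rw [Submodule.Quotient.mk_smul, hy]; rfl)
          (by rw [smul_comm, hm, map_smul]) }
  have hδsurj : Function.Surjective δ := by
    intro q
    obtain ⟨m', rfl⟩ := Submodule.Quotient.mk_surjective S q
    obtain ⟨y', hy'⟩ := hdivJ (j m')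
    refine ⟨⟨Submodule.Quotient.mk y', (mem_torsion_span_iff x).2 ?_⟩, hwd _ y' m' rfl hy'⟩
    rw [← Submodule.Quotient.mk_smul, show x • y' = j m' from hy']
    exact (Submodule.Quotient.mk_eq_zero _).2 (LinearMap.mem_range_self j m')
  let t : LocCoh.torsionBy b J →ₗ[R ⧸ b] LocCoh.torsionBy b C :=
    torsionMap b (LinearMap.range j).mkQ
  have ht : Function.Injective t := by
    rw [← LinearMap.ker_eq_bot, Submodule.eq_bot_iff]
    intro u hu
    obtain ⟨m', hm'⟩ : (u : J) ∈ LinearMap.range j :=
      (Submodule.Quotient.mk_eq_zero _).1 (congrArg Subtype.val hu)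
    have : m' = 0 := hM (by
      show x • m' = x • (0 : M)
      refine hj ?_
      rw [map_smul, hm', (mem_torsion_span_iff x).1 u.2, smul_zero, map_zero])
    exact Subtype.ext (by rw [← hm', this, map_zero]; rfl)
  have hexδ : Function.Exact t δ := by
    intro c
    constructor
    · intro h
      have h' : Submodule.Quotient.mk (p := S) (m c) = 0 := h
      rw [Submodule.Quotient.mk_eq_zero, hS] at h'
      obtain ⟨m', hm'⟩ := h'
      refine ⟨⟨y c - j m', (mem_torsion_span_iff x).2 ?_⟩, Subtype.ext ?_⟩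
      · rw [smul_sub, hm, ← map_smul, hm', sub_self]
      · show (LinearMap.range j).mkQ (y c - j m') = (c : C)
        rw [map_sub, Submodule.mkQ_apply, hy, Submodule.mkQ_apply,
          (Submodule.Quotient.mk_eq_zero _).2 (LinearMap.mem_range_self j m'), sub_zero]
    · rintro ⟨u, rfl⟩
      show Submodule.Quotient.mk (p := S) (m (t u)) = 0
      rw [hwd (t u) (u : J) 0 rfl (by rw [(mem_torsion_span_iff x).1 u.2, map_zero])]
      rfl
  exact ⟨fun h => extZ_right hexδ ht hδsurj h extZ_of_injective,
    fun h => extZ_mid hexδ ht hδsurj extZ_of_injective h⟩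

end GrothGoren
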