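import Groth.Prelude.Def_CAlg
import Groth.Agent.Gorenstein.ChangeRings
import Groth.Agent.Matlis.Prime
import Groth.Agent.Matlis.Localize
import Groth.Agent.LocCohBase.Depth
import Mathlib.RingTheory.KrullDimension.Regular
import Mathlib.RingTheory.Ideal.Height

/-!
# Noetherian local rings of finite self-injective dimension

For a Noetherian local ring `R` of finite injective dimension over itself, the injective dimension,
the Krull dimension and the depth agree; consequences for quotients by nonzerodivisors and for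
localizations. Helper library (no milestone statements here).
-/

universe u

open CategoryTheory IsLocalRing RingTheory.Sequence
open scoped Pointwise

namespace GrothGoren

variable {R : Type u} [CommRing R]

theorem extZ_of_projective {N M : Type u} [AddCommGroup N] [Module R N] [AddCommGroup M]
    [Module R M] [Module.Projective R N] {i : ℕ} : ExtZ R N M (i + 1) := by
  haveI : Projective (ModuleCat.of R N) :=
    (IsProjective.iff_projective (R := R) (P := N)).1 inferInstance
  exact Abelian.Ext.subsingleton_of_projective _ _ i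

theorem extZ_contra_left {A B C N : Type u} [AddCommGroup A] [Module R A] [AddCommGroup B]
    [Module R B] [AddCommGroup C] [Module R C] [AddCommGroup N] [Module R N] {f : A →ₗ[R] B}
    {g : B →ₗ[R] C} (hex : Function.Exact f g) (hf : Function.Injective f)
    (hg : Function.Surjective g) {i : ℕ} (h₂ : ExtZ R B N i) (h₃ : ExtZ R C N (i + 1)) :
    ExtZ R A N i := by
  refine subsingleton_of_forall_eq 0 fun x => ?_
  obtain ⟨y, rfl⟩ := Abelian.Ext.contravariant_sequence_exact₁ (seqCx_shortExact f g hex hf hg)
    (ModuleCat.of R N) x (n₁ := i + 1) (by omega) (Subsingleton.elim (h := h₃) _ _)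
  rw [Subsingleton.elim (h := h₂) y 0, Abelian.Ext.comp_zero]

/-- `R ⧸ b • R = R ⧸ b` linearly over `R ⧸ b`. -/
noncomputable def quotientSelfEquiv (b : Ideal R) :
    (R ⧸ (b • ⊤ : Submodule R R)) ≃ₗ[R ⧸ b] R ⧸ b :=
  LinearEquiv.extendScalarsOfSurjective Ideal.Quotient.mk_surjective
    (Submodule.quotEquivOfEq _ _ (by simp))

section LocalRing

variable [IsLocalRing R]

/-- The residue field of a quotient of a local ring is the residue field. -/
theorem exists_residueField_equiv (A : Type u) [CommRing A] [IsLocalRing A] [Algebra R A]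
    (hA : Function.Surjective (algebraMap R A)) :
    Nonempty (ResidueField R ≃ₗ[R] ResidueField A) := by
  let φ : R →ₗ[R] ResidueField A := Algebra.linearMap R (ResidueField A)
  have hφ : Function.Surjective φ := fun y => by
    obtain ⟨a, rfl⟩ := IsLocalRing.residue_surjective y
    obtain ⟨r, rfl⟩ := hA a
    exact ⟨r, rfl⟩
  have hker : LinearMap.ker φ = maximalIdeal R :=
    IsLocalRing.eq_maximalIdeal (RingHom.ker_isMaximal_of_surjective
      (algebraMap R (ResidueField A)) hφ)
  exact ⟨(Submodule.quotEquivOfEq _ _ hker.symm).trans (φ.quotKerEquivOfSurjective hφ)⟩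

theorem isUnit_of_isSMulRegular_of_injective (hR : Module.Injective R R) {x : R}
    (hx : IsSMulRegular R x) : IsUnit x := by
  obtain ⟨y, hy⟩ := isDiv_of_injective x hx hR 1
  exact IsUnit.of_mul_eq_one y (by simpa using hy)

variable [IsNoetherianRing R]

/-- A self-injective Noetherian local ring has Krull dimension zero. -/
theorem ringKrullDim_eq_zero_of_injective (hR : Module.Injective R R) : ringKrullDim R = 0 := by
  have hind : InjHull.IsIndecomposable R R := by
    refine ⟨inferInstance, fun A B hAB => ?_⟩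
    by_contra h
    push Not at h
    have hA : A ≠ ⊤ := fun hA => h.2 (by simpa [hA] using hAB.inf_eq_bot)
    have hB : B ≠ ⊤ := fun hB => h.1 (by simpa [hB] using hAB.inf_eq_bot)
    exact (maximalIdeal.isMaximal R).ne_top (top_le_iff.1 (hAB.sup_eq_top ▸
      sup_le (IsLocalRing.le_maximalIdeal hA) (IsLocalRing.le_maximalIdeal hB)))
  obtain ⟨p, hp, f, hf⟩ := GrothMatlis.exists_prime_hull hind hR
  have hpm : p = maximalIdeal R := by
    refine le_antisymm (IsLocalRing.le_maximalIdeal hp.ne_top) fun r hr => ?_
    by_contra hrp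
    obtain ⟨y, hy⟩ := (GrothMatlis.smul_bijective_hull p hf hrp).2 1
    exact (IsLocalRing.mem_maximalIdeal r).1 hr (IsUnit.of_mul_eq_one y hy)
  obtain ⟨n, hn⟩ := GrothMatlis.hull_ptor_eq_top p hf 1
  have hnil : maximalIdeal R ^ n = ⊥ := by
    rw [← hpm]
    exact (Submodule.eq_bot_iff _).2 fun r hr => by simpa using hn r hr
  have : Ring.KrullDimLE 0 R := Ring.krullDimLE_zero_iff.2 fun q hq => by
    have hmq : maximalIdeal R ≤ q := hq.le_of_pow_le (hnil ▸ bot_le)
    exact le_antisymm (IsLocalRing.le_maximalIdeal hq.ne_top) hmq ▸ maximalIdeal.isMaximal R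
  exact ringKrullDimZero_iff_ringKrullDim_eq_zero.1 this

theorem exists_residueField_embedding (h : ∀ x ∈ maximalIdeal R, ¬ IsSMulRegular R x) :
    ∃ ι : ResidueField R →ₗ[R] R, Function.Injective ι := by
  have hfin := associatedPrimes.finite R R
  have hsub : (maximalIdeal R : Set R) ⊆ ⋃ p ∈ hfin.toFinset, ((p : Ideal R) : Set R) := by
    intro x hx
    have hx' : x ∈ ⋃ p ∈ associatedPrimes R R, (p : Set R) := by
      rw [biUnion_associatedPrimes_eq_compl_regular]
      exact h x hx
    simpa using hx'
  obtain ⟨p, hp, hle⟩ := (Ideal.subset_union_prime (maximalIdeal R) (maximalIdeal R)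
    fun q hq _ _ => (hfin.mem_toFinset.1 hq).isPrime).1 hsub
  have hp' := hfin.mem_toFinset.1 hp
  have : p = maximalIdeal R :=
    le_antisymm (IsLocalRing.le_maximalIdeal hp'.isPrime.ne_top) hle
  obtain ⟨_, ι, hι⟩ := (isAssociatedPrime_iff_exists_injective_linearMap _ R).1 (this ▸ hp')
  exact ⟨ι, hι⟩

/-- In depth zero, finite self-injective dimension forces self-injectivity. -/
theorem injective_self_of_injLT (h : ∀ x ∈ maximalIdeal R, ¬ IsSMulRegular R x) :
    ∀ n : ℕ, InjLT R R (n + 1) → Module.Injective R R := by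
  intro n
  induction n with
  | zero => exact injLT_one_iff.1
  | succ n ih =>
    intro hn
    obtain ⟨ι, hι⟩ := exists_residueField_embedding h
    refine ih (injLT_of_residueField fun i hi => ?_)
    obtain ⟨j, rfl⟩ : ∃ j, i = j + 1 := ⟨i - 1, by omega⟩
    exact extZ_contra_left (LinearMap.exact_map_mkQ_range ι) hι (Submodule.mkQ_surjective _)
      extZ_of_projective (hn.extZ _ (by omega))

/-- Length of a weakly regular sequence in the maximal ideal is at most the dimension. -/
theorem length_le_ringKrullDim {rs : List R} (h : IsWeaklyRegular R rs)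
    (hmem : ∀ r ∈ rs, r ∈ maximalIdeal R) : ((rs.length : ℕ∞) : WithBot ℕ∞) ≤ ringKrullDim R := by
  have hreg : IsRegular R rs :=
    RingTheory.Sequence.IsRegular.of_isWeaklyRegular_of_mem_maximalIdeal R hmem h
  rw [← ringKrullDim_add_length_eq_ringKrullDim_of_isRegular rs hreg]
  haveI : Nontrivial (R ⧸ Ideal.ofList rs) :=
    Ideal.Quotient.nontrivial_iff.2 fun h' => (maximalIdeal.isMaximal R).ne_top
      (top_le_iff.1 (h' ▸ Ideal.span_le.2 hmem))
  refine le_add_of_nonneg_left ringKrullDim_nonneg_of_nontrivial |>.trans' ?_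
  rfl

end LocalRing

/-- The properties of a Noetherian local ring of finite self-injective dimension. -/
theorem main : ∀ (n : ℕ) (R : Type u) [CommRing R] [IsLocalRing R] [IsNoetherianRing R],
    InjLT R R (n + 1) → ∃ d : ℕ, ringKrullDim R = d ∧ InjLT R R (d + 1) ∧ ¬ InjLT R R d ∧
      ∃ rs : List R, rs.length = d ∧ IsWeaklyRegular R rs ∧ ∀ r ∈ rs, r ∈ maximalIdeal R := by
  intro n
  induction n using Nat.strong_induction_on with
  | _ n ih =>
    intro R _ _ _ hn
    by_cases hex : ∃ x ∈ maximalIdeal R, IsSMulRegular R x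
    · obtain ⟨x, hxm, hx⟩ := hex
      have hnot1 : ¬ InjLT R R 1 := fun h1 => (IsLocalRing.mem_maximalIdeal x).1 hxm
        (isUnit_of_isSMulRegular_of_injective (injLT_one_iff.1 h1) hx)
      obtain ⟨m, rfl⟩ : ∃ m, n = m + 1 := ⟨n - 1, by
        rcases Nat.eq_zero_or_pos n with rfl | h
        · exact absurd hn hnot1
        · omega⟩
      let b := Ideal.span {x}
      let A := R ⧸ b
      haveI : Nontrivial A := Ideal.Quotient.nontrivial_iff.2 fun hb =>
        (maximalIdeal.isMaximal R).ne_top
          (top_le_iff.1 (hb ▸ (Ideal.span_singleton_le_iff_mem _).2 hxm))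
      haveI : IsLocalRing A := .of_surjective' (Ideal.Quotient.mk b) Ideal.Quotient.mk_surjective
      obtain ⟨eκ⟩ := exists_residueField_equiv (R := R) A Ideal.Quotient.mk_surjective
      have hA : InjLT A A (m + 1) := injLT_of_residueField fun i hi => by
        obtain ⟨j, rfl⟩ : ∃ j, i = j + 1 := ⟨i - 1, by omega⟩
        exact extZ_of_equiv (quotientSelfEquiv b)
          ((extZ_quotient_iff x hx (ResidueField A) R hx j).1 (hn.extZ _ (by omega)))
      obtain ⟨d, hd, hd1, hd0, rs, hlen, hrs, hmem⟩ := ih m (by omega) A hA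
      refine ⟨d + 1, ?_, ?_, ?_, ?_⟩
      · rw [← ringKrullDim_quotient_span_singleton_succ_eq_ringKrullDim hx hxm]
        show ringKrullDim A + 1 = _
        rw [hd]
        norm_cast
      · refine injLT_of_residueField fun i hi => extZ_of_equiv_left eκ.symm ?_
        obtain ⟨j, rfl⟩ : ∃ j, i = j + 2 := ⟨i - 2, by omega⟩
        exact (extZ_quotient_iff x hx (ResidueField A) R hx j).2
          (extZ_of_equiv (quotientSelfEquiv b).symm (hd1.extZ _ (by omega)))
      · intro hlt
        rcases Nat.eq_zero_or_pos d with rfl | hpos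
        · exact hnot1 hlt
        · obtain ⟨e, rfl⟩ : ∃ e, d = e + 1 := ⟨d - 1, by omega⟩
          refine hd0 (injLT_of_residueField fun i hi => ?_)
          obtain ⟨j, rfl⟩ : ∃ j, i = j + 1 := ⟨i - 1, by omega⟩
          exact extZ_of_equiv (quotientSelfEquiv b)
            ((extZ_quotient_iff x hx (ResidueField A) R hx j).1 (hlt.extZ _ (by omega)))
      · obtain ⟨rs', hrs'⟩ := List.map_surjective_iff.2 (Ideal.Quotient.mk_surjective (I := b)) rs
        refine ⟨x :: rs', by rw [List.length_cons, ← hlen, ← hrs', List.length_map],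
          (isWeaklyRegular_cons_iff R x rs').2 ⟨hx, ?_⟩, ?_⟩
        · have e : QuotSMulTop x R ≃ₗ[R] A := Submodule.quotEquivOfEq _ _
            (by rw [← Submodule.ideal_span_singleton_smul]; simp [b])
          rw [e.isWeaklyRegular_congr, ← isWeaklyRegular_map_algebraMap_iff A A]
          exact hrs'.symm ▸ hrs
        · intro r hr
          rcases List.mem_cons.1 hr with rfl | hr
          · exact hxm
          · by_contra hcon
            have hu : IsUnit (Ideal.Quotient.mk b r) :=
              (IsLocalRing.notMem_maximalIdeal.1 hcon).map _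
            exact (IsLocalRing.mem_maximalIdeal _).1
              (hmem _ (hrs' ▸ List.mem_map_of_mem hr)) hu
    · push Not at hex
      have hinj := injective_self_of_injLT hex n hn
      exact ⟨0, by simpa using ringKrullDim_eq_zero_of_injective hinj, injLT_one_iff.2 hinj,
        fun h => not_subsingleton R (injLT_zero_iff.1 h), [], rfl, IsWeaklyRegular.nil R R,
        by simp⟩

section Consequences

variable (R) [IsLocalRing R] [IsNoetherianRing R]

/-- For finite self-injective dimension: dimension, depth and injective dimension agree. -/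
theorem exists_dim (h : ∃ n, InjLT R R n) : ∃ d : ℕ, ringKrullDim R = d ∧ InjLT R R (d + 1) ∧
    ¬ InjLT R R d ∧ LocCoh.depth R R = d := by
  obtain ⟨n, hn⟩ := h
  obtain ⟨d, hd, hd1, hd0, rs, hlen, hrs, hmem⟩ := main n R (injLT_mono (Nat.le_succ n) hn)
  refine ⟨d, hd, hd1, hd0, le_antisymm ?_ ?_⟩
  · have htop : maximalIdeal R • (⊤ : Submodule R R) ≠ ⊤ := by
      simpa using (maximalIdeal.isMaximal R).ne_top
    refine ENat.forall_natCast_le_iff_le.1 fun k hk => ?_
    obtain ⟨ss, hsl, hss, hsm⟩ := (Groth.LocCohBase.le_idealDepth_iff_exists _ htop k).1 hk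
    have := length_le_ringKrullDim hss hsm
    rw [hsl, hd] at this
    exact_mod_cast this
  · have htop : maximalIdeal R • (⊤ : Submodule R R) ≠ ⊤ := by
      simpa using (maximalIdeal.isMaximal R).ne_top
    exact (Groth.LocCohBase.le_idealDepth_iff_exists _ htop d).2 ⟨rs, hlen, hrs, hmem⟩

theorem isGorenstein_iff : LocCoh.IsGorensteinLocalRing R ↔ ∃ n, InjLT R R n :=
  ⟨fun h => h.exists_hasInjectiveDimensionLT, fun h => { exists_hasInjectiveDimensionLT := h }⟩

theorem isCohenMacaulay (h : ∃ n, InjLT R R n) : LocCoh.IsCohenMacaulayLocalRing R := by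
  obtain ⟨d, hd, _, _, hdep⟩ := exists_dim R h
  exact { supportDim_eq_depth := by rw [Module.supportDim_self_eq_ringKrullDim, hd, hdep]; rfl }

/-- Finite self-injective dimension passes to and from the quotient by a nonzerodivisor. -/
theorem exists_injLT_quotient_iff {x : R} (hxm : x ∈ maximalIdeal R) (hx : IsSMulRegular R x)
    [IsLocalRing (R ⧸ Ideal.span {x})] :
    (∃ n, InjLT R R n) ↔ ∃ n, InjLT (R ⧸ Ideal.span {x}) (R ⧸ Ideal.span {x}) n := by
  obtain ⟨eκ⟩ := exists_residueField_equiv (R := R) (R ⧸ Ideal.span {x})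
    Ideal.Quotient.mk_surjective
  constructor
  · rintro ⟨n, hn⟩
    refine exists_injLT_iff.2 ⟨n + 1, fun i hi => ?_⟩
    obtain ⟨j, rfl⟩ : ∃ j, i = j + 1 := ⟨i - 1, by omega⟩
    exact extZ_of_equiv (quotientSelfEquiv _)
      ((extZ_quotient_iff x hx _ R hx j).1 (hn.extZ _ (by omega)))
  · rintro ⟨n, hn⟩
    refine exists_injLT_iff.2 ⟨n + 2, fun i hi => extZ_of_equiv_left eκ.symm ?_⟩
    obtain ⟨j, rfl⟩ : ∃ j, i = j + 2 := ⟨i - 2, by omega⟩
    exact (extZ_quotient_iff x hx _ R hx j).2
      (extZ_of_equiv (quotientSelfEquiv _).symm (hn.extZ _ (by omega)))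

end Consequences

end GrothGoren
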