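import Groth.Agent.Gorenstein.Basic
import Groth.Agent.Ega4Algebra1.RegularLocal

/-!
# Regular local rings, finite self-injective dimension and localization

Helper library (no milestone statements here).
-/

universe u

open IsLocalRing

namespace GrothGoren

/-- A Noetherian local ring with zero maximal ideal is self-injective. -/
theorem injective_of_maximalIdeal_eq_bot {R : Type u} [CommRing R] [IsLocalRing R]
    (h : maximalIdeal R = ⊥) : Module.Injective R R := by
  refine Module.Baer.injective fun I g => ?_
  rcases eq_or_ne I ⊤ with rfl | hI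
  · exact ⟨g ∘ₗ LinearMap.codRestrict ⊤ LinearMap.id (fun _ => Submodule.mem_top),
      fun x hx => rfl⟩
  · refine ⟨0, fun x hx => ?_⟩
    have hx0 : x = 0 := by
      have := IsLocalRing.le_maximalIdeal hI hx
      rwa [h, Submodule.mem_bot] at this
    subst hx0
    exact (map_zero g).symm

open Groth.Ega4Algebra1 in
theorem exists_injLT_of_regular : ∀ (n : ℕ) (R : Type u) [CommRing R] [IsRegularLocalRing R],
    (maximalIdeal R).spanFinrank ≤ n → ∃ k, InjLT R R k := by
  intro n
  induction n with
  | zero =>
    intro R _ _ h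
    refine ⟨1, injLT_one_iff.2 (injective_of_maximalIdeal_eq_bot ?_)⟩
    rw [Nat.le_zero, Submodule.spanFinrank_eq_zero_iff_eq_bot
      (IsNoetherian.noetherian (maximalIdeal R))] at h
    exact h
  | succ n ih =>
    intro R _ _ h
    rcases eq_or_ne (maximalIdeal R) ⊥ with hbot | hbot
    · exact ⟨1, injLT_one_iff.2 (injective_of_maximalIdeal_eq_bot hbot)⟩
    obtain ⟨x, hx, hx2⟩ := Set.not_subset.1 (maximalIdeal_not_le_sq hbot)
    haveI := isLocalRing_quotient_of_le (Ideal.span {x})
      ((Ideal.span_singleton_le_iff_mem _).2 hx)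
    haveI := (isRegularLocalRing_quotient_span_singleton hx hx2).1
    have hreg : IsSMulRegular R x := isSMulRegular_of_ne_zero_of_isRegularLocalRing R
      (fun h0 => hx2 (h0 ▸ Submodule.zero_mem _))
    exact (exists_injLT_quotient_iff R hx hreg).2
      (ih _ (Nat.le_of_lt_succ (lt_of_lt_of_le (spanFinrank_maximalIdeal_quotient_lt hx hx2) h)))

/-- The localization of `R` as a module over itself. -/
theorem exists_injLT_localization {R : Type u} [CommRing R] [IsNoetherianRing R] (S : Submonoid R)
    {n : ℕ} (h : InjLT R R n) : InjLT (Localization S) (Localization S) (n + 1) :=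
  injLT_localized S n R (injLT_mono (Nat.le_succ n) h)

theorem isGorensteinRing_and_dim {R : Type u} [CommRing R] [IsNoetherianRing R] {n : ℕ}
    (h : InjLT R R n) : LocCoh.IsGorensteinRing R ∧ ringKrullDim R ≤ (n : WithBot ℕ∞) := by
  refine ⟨⟨fun p _ => (isGorenstein_iff _).2 ⟨_, exists_injLT_localization p.primeCompl h⟩⟩, ?_⟩
  rw [ringKrullDim_le_iff_height_le]
  intro p hp
  obtain ⟨d, hd, _, hd0, -⟩ :=
    exists_dim (Localization.AtPrime p) ⟨_, exists_injLT_localization p.primeCompl h⟩
  rw [← IsLocalization.AtPrime.ringKrullDim_eq_height p (Localization.AtPrime p), hd]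
  by_contra hlt
  have hnd : n + 1 ≤ d := by
    by_contra hnd
    exact hlt (by exact_mod_cast (show d ≤ n by omega))
  exact hd0 (injLT_mono hnd (exists_injLT_localization p.primeCompl h))

theorem exists_injLT_of_isGorensteinRing {R : Type u} [CommRing R]
    [LocCoh.IsGorensteinRing R] {D : ℕ} (hD : ringKrullDim R ≤ (D : WithBot ℕ∞)) :
    InjLT R R (D + 1) := by
  refine injLT_of_localized_maximal D R fun m hm => ?_
  haveI := LocCoh.IsGorensteinRing.isGorensteinLocalRing_localization (A := R) m
  obtain ⟨d, hd, hd1, -⟩ := exists_dim (Localization.AtPrime m)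
    ((isGorenstein_iff _).1 inferInstance)
  have hdD : d ≤ D := by
    rw [IsLocalization.AtPrime.ringKrullDim_eq_height m (Localization.AtPrime m)] at hd
    have := (ringKrullDim_le_iff_height_le _).1 hD hm.isPrime
    rw [hd] at this
    exact_mod_cast this
  exact injLT_mono (Nat.succ_le_succ hdD) hd1

end GrothGoren
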