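import Groth.Agent.Gorenstein.ChangeRings

/-!
# `Ext` along a quotient `R → R ⧸ b` acyclic for `M`

If `Ext^(i+1)_R(R ⧸ b, M) = 0` for all `i`, then for `b`-killed `N`, vanishing of
`Ext^(i+1)_R(N, M)` is equivalent to vanishing of `Ext^(i+1)_(R/b)(N, M[b])`. Helper library.
-/

universe u

open CategoryTheory

namespace GrothGoren

variable {R : Type u} [CommRing R] (b : Ideal R)

theorem torsion_exact_of_extZ {A B C : Type u} [AddCommGroup A] [Module R A] [AddCommGroup B]
    [Module R B] [AddCommGroup C] [Module R C] {f : A →ₗ[R] B} {g : B →ₗ[R] C}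
    (hex : Function.Exact f g) (hf : Function.Injective f) (hg : Function.Surjective g)
    [Module.Injective R B] (hA : ExtZ R (R ⧸ b) A 1) :
    Function.Exact (torsionMap b f) (torsionMap b g) ∧ Function.Injective (torsionMap b f) ∧
      Function.Surjective (torsionMap b g) := by
  refine ⟨fun y => ⟨fun h => ?_, ?_⟩, fun a c h => Subtype.ext (hf (congrArg Subtype.val h)),
    fun c => ?_⟩
  · obtain ⟨a, ha⟩ := (hex (y : B)).1 (congrArg Subtype.val h)
    refine ⟨⟨a, (Submodule.mem_torsionBySet_iff _ _).2 fun r => hf ?_⟩, Subtype.ext ha⟩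
    rw [map_smul, ha, map_zero, (Submodule.mem_torsionBySet_iff _ _).1 y.2 r]
  · rintro ⟨a, rfl⟩
    exact Subtype.ext (hex.apply_apply_eq_zero _)
  · obtain ⟨v, hv⟩ := (extZ_one_iff hex hf hg).1 hA
      (torsionToHom b (LinearMap.toSpanSingleton (R ⧸ b) _ c))
    refine ⟨homToTorsion b v 1, Subtype.ext ?_⟩
    show g (v 1) = c
    refine (LinearMap.congr_fun hv 1).trans ?_
    show ((LinearMap.toSpanSingleton (R ⧸ b) (LocCoh.torsionBy b C) c 1) : C) = c
    rw [LinearMap.toSpanSingleton_apply, one_smul]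

theorem extZ_torsion_iff (N : Type u) [AddCommGroup N] [Module R N] [Module (R ⧸ b) N]
    [IsScalarTower R (R ⧸ b) N] : ∀ (i : ℕ) (M : Type u) [AddCommGroup M] [Module R M],
    (∀ j, ExtZ R (R ⧸ b) M (j + 1)) →
      (ExtZ R N M (i + 1) ↔ ExtZ (R ⧸ b) N (LocCoh.torsionBy b M) (i + 1)) := by
  intro i
  induction i with
  | zero =>
    intro M _ _ hM
    obtain ⟨J, _, _, j, hj, hJ⟩ := exists_injective_sequence R M
    have hex := LinearMap.exact_map_mkQ_range j
    have hsurj := Submodule.mkQ_surjective (LinearMap.range j)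
    obtain ⟨hexT, hfT, hgT⟩ := torsion_exact_of_extZ b hex hj hsurj (hM 0)
    haveI := injective_torsion b hJ
    rw [extZ_one_iff hex hj hsurj, extZ_one_iff hexT hfT hgT]
    constructor
    · intro h ψ
      obtain ⟨v, hv⟩ := h (torsionToHom _ ψ)
      exact ⟨homToTorsion _ v, LinearMap.ext fun n => Subtype.ext (LinearMap.congr_fun hv n)⟩
    · intro h φ
      obtain ⟨v, hv⟩ := h (homToTorsion _ φ)
      exact ⟨torsionToHom _ v, LinearMap.ext fun n => congrArg Subtype.val (LinearMap.congr_fun hv n)⟩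
  | succ i ih =>
    intro M _ _ hM
    obtain ⟨J, _, _, j, hj, hJ⟩ := exists_injective_sequence R M
    have hex := LinearMap.exact_map_mkQ_range j
    have hsurj := Submodule.mkQ_surjective (LinearMap.range j)
    obtain ⟨hexT, hfT, hgT⟩ := torsion_exact_of_extZ b hex hj hsurj (hM 0)
    haveI := injective_torsion b hJ
    rw [extZ_shift hex hj hsurj i, extZ_shift hexT hfT hgT i]
    exact ih _ fun k => (extZ_shift hex hj hsurj k).1 (hM (k + 1))

end GrothGoren
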