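import Groth.Agent.Gorenstein.InjDim
import Mathlib.Algebra.Category.ModuleCat.InjectiveDimension

/-!
# Finite self-injective dimension and ring isomorphisms

Helper library (no milestone statements here).
-/

universe u

open CategoryTheory

namespace GrothGoren

attribute [local instance] RingHomInvPair.of_ringEquiv

theorem injLT_of_ringEquiv {R S : Type u} [CommRing R] [CommRing S] (e : R ≃+* S) {n : ℕ}
    (h : InjLT R R (n + 1)) : InjLT S S (n + 1) := by
  let σ : R ≃ₛₗ[RingHomClass.toRingHom e] S :=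
    { e.toAddEquiv with map_smul' := fun a b => map_mul e a b }
  exact (ModuleCat.hasInjectiveDimensionLE_iff_of_semiLinearEquiv (M := ModuleCat.of R R)
    (N := ModuleCat.of S S) e σ n).1 h

theorem exists_injLT_iff_of_ringEquiv {R S : Type u} [CommRing R] [CommRing S] (e : R ≃+* S) :
    (∃ n, InjLT R R n) ↔ ∃ n, InjLT S S n :=
  ⟨fun ⟨n, hn⟩ => ⟨n + 1, injLT_of_ringEquiv e (injLT_mono (Nat.le_succ n) hn)⟩,
    fun ⟨n, hn⟩ => ⟨n + 1, injLT_of_ringEquiv e.symm (injLT_mono (Nat.le_succ n) hn)⟩⟩

end GrothGoren
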