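import Groth.Agent.Gorenstein.ExtBaseChange
import Groth.Agent.Gorenstein.ChangeRingsExt
import Groth.Agent.Gorenstein.RingEquiv
import Groth.Agent.Matlis.BaseChange
import Mathlib.RingTheory.Flat.Stability
import Mathlib.RingTheory.Flat.FaithfullyFlat.Algebra

/-!
# Finite self-injective dimension along flat local homomorphisms

For a flat local homomorphism `A → B` of Noetherian local rings with closed fibre `F`, `B` has finite
self-injective dimension iff `A` and `F` have. Helper library (no milestone statements here).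
-/

universe u

open IsLocalRing TensorProduct InjHull

namespace GrothGoren

/-- A torsion submodule transported along a linear equivalence. -/
def torsionEquiv {R : Type u} [CommRing R] (b : Ideal R) {U V : Type u} [AddCommGroup U]
    [Module R U] [AddCommGroup V] [Module R V] (e : U ≃ₗ[R] V) :
    LocCoh.torsionBy b U ≃ₗ[R ⧸ b] LocCoh.torsionBy b V where
  toLinearMap := torsionMap b e.toLinearMap
  invFun := torsionMap b e.symm.toLinearMap
  left_inv c := Subtype.ext (e.symm_apply_apply c)
  right_inv c := Subtype.ext (e.apply_symm_apply c)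

/-- The socle of a self-injective Noetherian local ring is the residue field. -/
theorem exists_socle {A : Type u} [CommRing A] [IsLocalRing A] [IsNoetherianRing A]
    (hA : Module.Injective A A) : ∃ g : ResidueField A →ₗ[A] A, IsEssentialInj g := by
  obtain ⟨ι, hι⟩ := exists_residueField_embedding fun x hx hreg =>
    (IsLocalRing.mem_maximalIdeal x).1 hx (isUnit_of_isSMulRegular_of_injective hA hreg)
  have hind : InjHull.IsIndecomposable A A := by
    refine ⟨inferInstance, fun P Q hPQ => ?_⟩
    by_contra h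
    push Not at h
    have hP : P ≠ ⊤ := fun hP => h.2 (by simpa [hP] using hPQ.inf_eq_bot)
    have hQ : Q ≠ ⊤ := fun hQ => h.1 (by simpa [hQ] using hPQ.inf_eq_bot)
    exact (maximalIdeal.isMaximal A).ne_top (top_le_iff.1 (hPQ.sup_eq_top ▸
      sup_le (IsLocalRing.le_maximalIdeal hP) (IsLocalRing.le_maximalIdeal hQ)))
  refine ⟨ι, hι, fun Q hQ => GrothMatlis.uniform_of_indecomposable hind hA hQ fun h => ?_⟩
  rw [LinearMap.range_eq_bot] at h
  exact one_ne_zero (hι (a₁ := (1 : ResidueField A)) (a₂ := 0) (by simp [h]))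

variable (A B : Type u) [CommRing A] [CommRing B] [IsLocalRing A] [IsLocalRing B]
  [IsNoetherianRing A] [IsNoetherianRing B] [Algebra A B] [IsLocalHom (algebraMap A B)]
  [Module.Flat A B]

/-- The closed fibre as a tensor product. -/
noncomputable def fibreEquiv :
    (B ⧸ (maximalIdeal A).map (algebraMap A B)) ≃ₗ[B] B ⊗[A] ResidueField A :=
  (Algebra.TensorProduct.quotIdealMapEquivTensorQuot B (maximalIdeal A)).toLinearEquiv

theorem exists_injLT_of_flat (h : ∃ n, InjLT B B n) : ∃ n, InjLT A A n := by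
  obtain ⟨n, hn⟩ := h
  haveI : Module.FaithfullyFlat A B := Module.FaithfullyFlat.of_flat_of_isLocalHom
  refine exists_injLT_iff.2 ⟨n + 1, fun i hi => ?_⟩
  obtain ⟨j, rfl⟩ : ∃ j, i = j + 1 := ⟨i - 1, by omega⟩
  exact extZ_of_extZ_baseChange (B := B) A (ResidueField A)
    (extZ_of_equiv (AlgebraTensorModule.rid A B B).symm (hn.extZ _ (by omega)))

/-- Over a self-injective base: `B` versus its closed fibre. -/
theorem exists_injLT_fibre_iff_of_injective (hA : Module.Injective A A)
    [IsLocalRing (B ⧸ (maximalIdeal A).map (algebraMap A B))] :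
    (∃ n, InjLT B B n) ↔
      ∃ n, InjLT (B ⧸ (maximalIdeal A).map (algebraMap A B))
        (B ⧸ (maximalIdeal A).map (algebraMap A B)) n := by
  set b := (maximalIdeal A).map (algebraMap A B) with hb
  have hM : ∀ j, ExtZ B (B ⧸ b) B (j + 1) := fun j =>
    extZ_of_equiv_left (fibreEquiv A B).symm
      (extZ_of_equiv (AlgebraTensorModule.rid A B B)
        (extZ_baseChange (B := B) A (ResidueField A) (extZ_of_injective (B := A))))
  obtain ⟨g, hg⟩ := exists_socle hA
  let e₀ : LocCoh.torsionBy b B ≃ₗ[B] B ⧸ b :=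
    ((torsionEquiv b (AlgebraTensorModule.rid A B B).symm).restrictScalars B) ≪≫ₗ
      (GrothMatlis.torsionBaseChangeEquiv (B := B) (M := A) (maximalIdeal A)
        (IsNoetherian.noetherian _)).symm ≪≫ₗ
      TensorProduct.AlgebraTensorModule.congr (LinearEquiv.refl B B)
        ((LinearEquiv.ofEq _ _ (GrothMatlis.socle_eq hg)) ≪≫ₗ
          (LinearEquiv.ofInjective g hg.injective).symm) ≪≫ₗ
      (fibreEquiv A B).symm
  let e : LocCoh.torsionBy b B ≃ₗ[B ⧸ b] B ⧸ b :=
    e₀.extendScalarsOfSurjective Ideal.Quotient.mk_surjective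
  obtain ⟨eκ⟩ := exists_residueField_equiv (R := B) (B ⧸ b) Ideal.Quotient.mk_surjective
  constructor
  · rintro ⟨n, hn⟩
    refine exists_injLT_iff.2 ⟨n + 1, fun i hi => ?_⟩
    obtain ⟨j, rfl⟩ : ∃ j, i = j + 1 := ⟨i - 1, by omega⟩
    exact extZ_of_equiv e ((extZ_torsion_iff b (ResidueField (B ⧸ b)) j B hM).1
      (hn.extZ _ (by omega)))
  · rintro ⟨n, hn⟩
    refine exists_injLT_iff.2 ⟨n + 1, fun i hi => extZ_of_equiv_left eκ.symm ?_⟩
    obtain ⟨j, rfl⟩ : ∃ j, i = j + 1 := ⟨i - 1, by omega⟩
    exact (extZ_torsion_iff b (ResidueField (B ⧸ b)) j B hM).2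
      (extZ_of_equiv e.symm (hn.extZ _ (by omega)))

omit A B [CommRing A] [CommRing B] [IsLocalRing A] [IsLocalRing B]
  [IsNoetherianRing A] [IsNoetherianRing B] [Algebra A B] [IsLocalHom (algebraMap A B)]
  [Module.Flat A B]

theorem nontrivial_fibre (A B : Type u) [CommRing A] [CommRing B] [IsLocalRing A] [IsLocalRing B]
    [Algebra A B] [IsLocalHom (algebraMap A B)] :
    IsLocalRing (B ⧸ (maximalIdeal A).map (algebraMap A B)) := by
  haveI : Nontrivial (B ⧸ (maximalIdeal A).map (algebraMap A B)) :=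
    Ideal.Quotient.nontrivial_iff.2 fun h => (maximalIdeal.isMaximal B).ne_top
      (top_le_iff.1 (h ▸ (((IsLocalRing.local_hom_TFAE (algebraMap A B)).out 0 2).1 ‹_›)))
  exact .of_surjective' (Ideal.Quotient.mk _) Ideal.Quotient.mk_surjective

theorem exists_injLT_fibre_iff : ∀ (d : ℕ) (A B : Type u) [CommRing A] [CommRing B]
    [IsLocalRing A] [IsLocalRing B] [IsNoetherianRing A] [IsNoetherianRing B] [Algebra A B]
    [IsLocalHom (algebraMap A B)] [Module.Flat A B], ringKrullDim A = d → (∃ n, InjLT A A n) →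
      ((∃ n, InjLT B B n) ↔ ∃ n, InjLT (B ⧸ (maximalIdeal A).map (algebraMap A B))
        (B ⧸ (maximalIdeal A).map (algebraMap A B)) n) := by
  intro d
  induction d with
  | zero =>
    intro A B _ _ _ _ _ _ _ _ _ hd hA
    haveI := nontrivial_fibre A B
    obtain ⟨d', hd', hd1, -⟩ := exists_dim A hA
    obtain rfl : d' = 0 := by exact_mod_cast hd'.symm.trans hd
    exact exists_injLT_fibre_iff_of_injective A B (injLT_one_iff.1 hd1)
  | succ d ih =>
    intro A B _ _ _ _ _ _ _ _ _ hd hA
    obtain ⟨x, hxm, hx⟩ : ∃ x ∈ maximalIdeal A, IsSMulRegular A x := by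
      by_contra hcon
      push Not at hcon
      obtain ⟨n, hn⟩ := hA
      have h0 := ringKrullDim_eq_zero_of_injective
        (injective_self_of_injLT hcon n (injLT_mono (Nat.le_succ n) hn))
      rw [hd] at h0
      exact absurd (show d + 1 = 0 by exact_mod_cast h0) (Nat.succ_ne_zero d)
    let a := Ideal.span {x}
    let y := algebraMap A B x
    have hab : a.map (algebraMap A B) = Ideal.span {y} := by simp [a, y, Ideal.map_span]
    have hy : IsSMulRegular B y := IsSMulRegular.of_flat hx
    have hym : y ∈ maximalIdeal B := fun h => hxm (isUnit_of_map_unit (algebraMap A B) x h)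
    let bB := a.map (algebraMap A B)
    have hbB : bB ≤ maximalIdeal B := by
      simp only [bB, hab, Ideal.span_singleton_le_iff_mem]
      exact hym
    haveI : Nontrivial (A ⧸ a) := Ideal.Quotient.nontrivial_iff.2 fun h =>
      (maximalIdeal.isMaximal A).ne_top
        (top_le_iff.1 (h ▸ (Ideal.span_singleton_le_iff_mem _).2 hxm))
    haveI : IsLocalRing (A ⧸ a) := .of_surjective' (Ideal.Quotient.mk a) Ideal.Quotient.mk_surjective
    haveI : Nontrivial (B ⧸ bB) := Ideal.Quotient.nontrivial_iff.2 fun h =>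
      (maximalIdeal.isMaximal B).ne_top (top_le_iff.1 (h ▸ hbB))
    haveI : IsLocalRing (B ⧸ bB) := .of_surjective' (Ideal.Quotient.mk bB) Ideal.Quotient.mk_surjective
    haveI : IsLocalHom (algebraMap (A ⧸ a) (B ⧸ bB)) := by
      refine ⟨fun z hz => ?_⟩
      obtain ⟨t, rfl⟩ := Ideal.Quotient.mk_surjective z
      haveI : IsLocalHom (Ideal.Quotient.mk bB) :=
        IsLocalHom.of_surjective _ Ideal.Quotient.mk_surjective
      exact (isUnit_of_map_unit (algebraMap A B) t
        (isUnit_of_map_unit (Ideal.Quotient.mk bB) _ hz)).map _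
    haveI : Module.Flat (A ⧸ a) (B ⧸ bB) :=
      Module.Flat.of_linearEquiv (M := (A ⧸ a) ⊗[A] B)
        (Algebra.TensorProduct.quotIdealMapEquivQuotTensor B a).toLinearEquiv
    have hd' : ringKrullDim (A ⧸ a) = d := by
      obtain ⟨e, he, -⟩ := exists_dim (A ⧸ a) ((exists_injLT_quotient_iff A hxm hx).1 hA)
      have h1 : ringKrullDim (A ⧸ a) + 1 = ringKrullDim A :=
        ringKrullDim_quotient_span_singleton_succ_eq_ringKrullDim hx hxm
      rw [he, hd] at h1
      rw [he]
      exact_mod_cast (show e = d by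
        have h2 : e + 1 = d + 1 := by exact_mod_cast h1
        omega)
    haveI := nontrivial_fibre A B
    have hy' : ∀ [IsLocalRing (B ⧸ Ideal.span {y})], ((∃ n, InjLT B B n) ↔
        ∃ n, InjLT (B ⧸ Ideal.span {y}) (B ⧸ Ideal.span {y}) n) :=
      exists_injLT_quotient_iff B hym hy
    haveI : IsLocalRing (B ⧸ Ideal.span {y}) := (Ideal.quotEquivOfEq hab).isLocalRing
    rw [hy', ← exists_injLT_iff_of_ringEquiv (Ideal.quotEquivOfEq hab),
      ih (A ⧸ a) (B ⧸ bB) hd' ((exists_injLT_quotient_iff A hxm hx).1 hA)]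
    refine exists_injLT_iff_of_ringEquiv ?_
    have hm : (maximalIdeal (A ⧸ a)).map (algebraMap (A ⧸ a) (B ⧸ bB)) =
        ((maximalIdeal A).map (algebraMap A B)).map (Ideal.Quotient.mk bB) := by
      have hmA : (maximalIdeal A).map (Ideal.Quotient.mk a) = maximalIdeal (A ⧸ a) := by
        haveI : IsLocalHom (Ideal.Quotient.mk a) :=
          IsLocalHom.of_surjective _ Ideal.Quotient.mk_surjective
        have h : (maximalIdeal (A ⧸ a)).comap (Ideal.Quotient.mk a) = maximalIdeal A :=
          ((IsLocalRing.local_hom_TFAE (Ideal.Quotient.mk a)).out 0 4).1 ‹_›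
        rw [← h,
          Ideal.map_comap_of_surjective _ Ideal.Quotient.mk_surjective]
      rw [← hmA, Ideal.map_map, Ideal.map_map]
      rfl
    exact (Ideal.quotEquivOfEq hm).trans (DoubleQuot.quotQuotEquivQuotOfLE
      (Ideal.map_mono ((Ideal.span_singleton_le_iff_mem _).2 hxm)))

/-- Finite self-injective dimension along a flat local homomorphism. -/
theorem exists_injLT_flat_iff (A B : Type u) [CommRing A] [CommRing B] [IsLocalRing A]
    [IsLocalRing B] [IsNoetherianRing A] [IsNoetherianRing B] [Algebra A B]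
    [IsLocalHom (algebraMap A B)] [Module.Flat A B] :
    (∃ n, InjLT B B n) ↔ (∃ n, InjLT A A n) ∧
      ∃ n, InjLT (B ⧸ (maximalIdeal A).map (algebraMap A B))
        (B ⧸ (maximalIdeal A).map (algebraMap A B)) n := by
  constructor
  · intro hB
    have hA := exists_injLT_of_flat A B hB
    obtain ⟨d, hd, -⟩ := exists_dim A hA
    exact ⟨hA, (exists_injLT_fibre_iff d A B hd hA).1 hB⟩
  · rintro ⟨hA, hF⟩
    obtain ⟨d, hd, -⟩ := exists_dim A hA
    exact (exists_injLT_fibre_iff d A B hd hA).2 hF

end GrothGoren
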