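import Groth.Agent.DualCore.FibreRings
import Groth.Agent.Gorenstein.FlatLocal
import Mathlib.RingTheory.PolynomialAlgebra
import Mathlib.RingTheory.RegularLocalRing.Polynomial
import Mathlib.RingTheory.Localization.BaseChange
import Mathlib.RingTheory.TensorProduct.Quotient
import Mathlib.RingTheory.AdjoinRoot
import Mathlib.RingTheory.Regular.Flat
import Mathlib.FieldTheory.IntermediateField.Adjoin.Basic

/-!
# Gorenstein rings: flat extensions, polynomials, field extensions
-/

set_option autoImplicit false

universe u

open TensorProduct IsLocalRing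

namespace GrothGoren

theorem isGorensteinRing_of_ringEquiv {R S : Type u} [CommRing R] [CommRing S] (e : R ≃+* S)
    [LocCoh.IsGorensteinRing R] : LocCoh.IsGorensteinRing S := by
  haveI := isNoetherianRing_of_ringEquiv R e
  refine { isGorensteinLocalRing_localization := fun P _ => ?_ }
  haveI := LocCoh.IsGorensteinRing.isGorensteinLocalRing_localization (A := R) (P.comap e.toRingHom)
  have hmap : Submonoid.map e.toRingHom.toMonoidHom (P.comap e.toRingHom).primeCompl = P.primeCompl := by
    ext x
    constructor
    · rintro ⟨y, hy, rfl⟩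
      exact hy
    · intro hx
      exact ⟨e.symm x, by simpa [Ideal.primeCompl] using hx, e.apply_symm_apply x⟩
  exact (isGorenstein_iff _).2 ((exists_injLT_iff_of_ringEquiv
    (IsLocalization.ringEquivOfRingEquiv (Localization.AtPrime (P.comap e.toRingHom)) (Localization.AtPrime P)
      e hmap)).1 ((isGorenstein_iff _).1 inferInstance))

theorem isGorensteinRing_of_isLocalization {R : Type u} [CommRing R] [LocCoh.IsGorensteinRing R]
    (M : Submonoid R) (S : Type u) [CommRing S] [Algebra R S] [IsLocalization M S] :
    LocCoh.IsGorensteinRing S := by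
  haveI : IsNoetherianRing S := IsLocalization.isNoetherianRing M S inferInstance
  refine { isGorensteinLocalRing_localization := fun P _ => ?_ }
  haveI := LocCoh.IsGorensteinRing.isGorensteinLocalRing_localization (A := R) (P.under R)
  haveI : IsLocalization.AtPrime (Localization.AtPrime P) (P.under R) :=
    IsLocalization.isLocalization_isLocalization_atPrime_isLocalization M (Localization.AtPrime P) P
  exact (isGorenstein_iff _).2 ((exists_injLT_iff_of_ringEquiv (R := Localization.AtPrime (P.under R))
    (IsLocalization.algEquiv (P.under R).primeCompl (Localization.AtPrime (P.under R))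
      (Localization.AtPrime P)).toRingEquiv).1
        ((isGorenstein_iff _).1 inferInstance))

theorem isGorensteinRing_of_isRegularRing (R : Type u) [CommRing R] [IsRegularRing R] :
    LocCoh.IsGorensteinRing R where
  isGorensteinLocalRing_localization P _ := by
    haveI : IsRegularLocalRing (Localization.AtPrime P) := IsRegularRing.isRegularLocalRing_localization _
    exact (isGorenstein_iff _).2 (exists_injLT_of_regular _ _ le_rfl)

/-- The Gorenstein property of the local rings of a flat algebra. -/
theorem exists_injLT_atPrime_iff {A B : Type u} [CommRing A] [CommRing B] [Algebra A B] [IsNoetherianRing A]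
    [IsNoetherianRing B] [Module.Flat A B] (n : Ideal B) [n.IsPrime] :
    (∃ k, InjLT (Localization.AtPrime n) (Localization.AtPrime n) k) ↔
      (∃ k, InjLT (Localization.AtPrime (n.comap (algebraMap A B)))
        (Localization.AtPrime (n.comap (algebraMap A B))) k) ∧
      ∃ k, InjLT (Localization.AtPrime n ⧸ (n.comap (algebraMap A B)).map (algebraMap A (Localization.AtPrime n)))
        (Localization.AtPrime n ⧸ (n.comap (algebraMap A B)).map (algebraMap A (Localization.AtPrime n))) k := by
  let p := n.comap (algebraMap A B)
  haveI : n.LiesOver p := ⟨rfl⟩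
  letI : Algebra (Localization.AtPrime p) (Localization.AtPrime n) :=
    (Localization.localRingHom p n (algebraMap A B) rfl).toAlgebra
  haveI : IsScalarTower A (Localization.AtPrime p) (Localization.AtPrime n) :=
    IsScalarTower.of_algebraMap_eq fun a => by
      rw [RingHom.algebraMap_toAlgebra, Localization.localRingHom_to_map, IsScalarTower.algebraMap_apply A B]
  haveI : IsLocalHom (algebraMap (Localization.AtPrime p) (Localization.AtPrime n)) :=
    Localization.isLocalHom_localRingHom p n (algebraMap A B) rfl
  haveI : Module.Flat (Localization.AtPrime p) (Localization.AtPrime n) :=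
    RingHom.Flat.localRingHom (RingHom.flat_algebraMap_iff.2 ‹Module.Flat A B›) n p rfl
  haveI : IsNoetherianRing (Localization.AtPrime p) :=
    IsLocalization.isNoetherianRing p.primeCompl _ inferInstance
  haveI : IsNoetherianRing (Localization.AtPrime n) :=
    IsLocalization.isNoetherianRing n.primeCompl _ inferInstance
  have hmap : (maximalIdeal (Localization.AtPrime p)).map (algebraMap _ (Localization.AtPrime n)) =
      p.map (algebraMap A (Localization.AtPrime n)) := by
    rw [← Localization.AtPrime.map_eq_maximalIdeal, Ideal.map_map, ← IsScalarTower.algebraMap_eq]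
  rw [exists_injLT_flat_iff (Localization.AtPrime p) (Localization.AtPrime n),
    exists_injLT_iff_of_ringEquiv (Ideal.quotEquivOfEq hmap)]

/-- A flat algebra over a Gorenstein ring with Gorenstein fibres is Gorenstein. -/
theorem isGorensteinRing_of_flat {A B : Type u} [CommRing A] [CommRing B] [Algebra A B]
    [LocCoh.IsGorensteinRing A] [IsNoetherianRing B] [Module.Flat A B]
    (hG : ∀ (p : Ideal A) [p.IsPrime], LocCoh.IsGorensteinRing (p.Fiber B)) :
    LocCoh.IsGorensteinRing B := by
  refine { isGorensteinLocalRing_localization := fun n _ => (isGorenstein_iff _).2 ?_ }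
  rw [exists_injLT_atPrime_iff (A := A) n]
  haveI := LocCoh.IsGorensteinRing.isGorensteinLocalRing_localization (A := A) (n.comap (algebraMap A B))
  obtain ⟨Q, hQ, ⟨e⟩⟩ := Groth.DualCore.exists_fibre_localization_equiv (A := A) n
  haveI := hG (n.comap (algebraMap A B))
  haveI := LocCoh.IsGorensteinRing.isGorensteinLocalRing_localization (A := (n.comap (algebraMap A B)).Fiber B) Q
  exact ⟨(isGorenstein_iff _).1 inferInstance,
    (exists_injLT_iff_of_ringEquiv (R := Localization.AtPrime Q) e).1 ((isGorenstein_iff _).1 inferInstance)⟩

theorem isGorensteinRing_polynomial (R : Type u) [CommRing R] [LocCoh.IsGorensteinRing R] :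
    LocCoh.IsGorensteinRing (Polynomial R) := by
  refine isGorensteinRing_of_flat (A := R) fun p _ => ?_
  haveI := isGorensteinRing_of_isRegularRing (Polynomial p.ResidueField)
  exact isGorensteinRing_of_ringEquiv (polyEquivTensor R p.ResidueField).toRingEquiv

theorem isGorensteinRing_mvPolynomial : ∀ (n : ℕ) (R : Type u) [CommRing R] [LocCoh.IsGorensteinRing R],
    LocCoh.IsGorensteinRing (MvPolynomial (Fin n) R)
  | 0, R, _, _ => isGorensteinRing_of_ringEquiv (MvPolynomial.isEmptyRingEquiv R (Fin 0)).symm
  | n + 1, R, _, _ => by
    haveI := isGorensteinRing_mvPolynomial n R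
    haveI := isGorensteinRing_polynomial (MvPolynomial (Fin n) R)
    exact isGorensteinRing_of_ringEquiv (MvPolynomial.finSuccEquiv R n).symm.toRingEquiv

/-- The local rings of a quotient. -/
theorem nonempty_quotient_atPrime_equiv {R : Type u} [CommRing R] (J : Ideal R) (P : Ideal (R ⧸ J))
    [P.IsPrime] :
    Nonempty (Localization.AtPrime (P.comap (Ideal.Quotient.mk J)) ⧸
      J.map (algebraMap R (Localization.AtPrime (P.comap (Ideal.Quotient.mk J)))) ≃+*
        Localization.AtPrime P) := by
  let q := P.comap (Ideal.Quotient.mk J)
  have hsub : Algebra.algebraMapSubmonoid (R ⧸ J) q.primeCompl = P.primeCompl := by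
    ext x
    constructor
    · rintro ⟨y, hy, rfl⟩
      exact hy
    · intro hx
      obtain ⟨y, rfl⟩ := Ideal.Quotient.mk_surjective x
      exact ⟨y, hx, rfl⟩
  haveI : IsLocalization P.primeCompl (Localization.AtPrime q ⧸ J.map (algebraMap R (Localization.AtPrime q))) := by
    rw [← hsub]; infer_instance
  exact ⟨(IsLocalization.algEquiv P.primeCompl (Localization.AtPrime q ⧸ J.map (algebraMap R (Localization.AtPrime q)))
    (Localization.AtPrime P)).toRingEquiv⟩

theorem isGorensteinRing_quotient_span {R : Type u} [CommRing R] [LocCoh.IsGorensteinRing R] {f : R}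
    (hf : IsSMulRegular R f) : LocCoh.IsGorensteinRing (R ⧸ Ideal.span {f}) := by
  refine { isGorensteinLocalRing_localization := fun P _ => (isGorenstein_iff _).2 ?_ }
  obtain ⟨e⟩ := nonempty_quotient_atPrime_equiv (Ideal.span {f}) P
  let Rq := Localization.AtPrime (P.comap (Ideal.Quotient.mk (Ideal.span {f})))
  haveI : IsNoetherianRing Rq := IsLocalization.isNoetherianRing
    (P.comap (Ideal.Quotient.mk (Ideal.span {f}))).primeCompl Rq inferInstance
  have hmem : algebraMap R Rq f ∈ maximalIdeal Rq := by
    rw [IsLocalization.AtPrime.to_map_mem_maximal_iff Rq (P.comap (Ideal.Quotient.mk (Ideal.span {f})))]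
    rw [Ideal.mem_comap, Ideal.Quotient.eq_zero_iff_mem.2 (Ideal.mem_span_singleton_self f)]
    exact P.zero_mem
  have hreg : IsSMulRegular Rq (algebraMap R Rq f) :=
    (RingTheory.Sequence.isWeaklyRegular_singleton_iff Rq _).1
      (((RingTheory.Sequence.isWeaklyRegular_singleton_iff R f).2 hf).of_isLocalization Rq
        (P.comap (Ideal.Quotient.mk (Ideal.span {f}))).primeCompl)
  haveI : Nontrivial (Rq ⧸ Ideal.span {algebraMap R Rq f}) :=
    Ideal.Quotient.nontrivial_iff.2 (ne_top_of_le_ne_top (maximalIdeal.isMaximal Rq).ne_top
      ((Ideal.span_singleton_le_iff_mem _).2 hmem))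
  haveI : IsLocalRing (Rq ⧸ Ideal.span {algebraMap R Rq f}) :=
    .of_surjective' (Ideal.Quotient.mk _) Ideal.Quotient.mk_surjective
  haveI := LocCoh.IsGorensteinRing.isGorensteinLocalRing_localization (A := R)
    (P.comap (Ideal.Quotient.mk (Ideal.span {f})))
  exact (exists_injLT_iff_of_ringEquiv ((Ideal.quotEquivOfEq (by
    rw [Ideal.map_span, Set.image_singleton])).trans e)).1
      ((exists_injLT_quotient_iff Rq hmem hreg).1 ((isGorenstein_iff _).1 inferInstance))

/-- A simple extension of the ground field. -/
theorem isGorensteinRing_tensor_of_adjoin_eq_top {L L' : Type u} [Field L] [Field L'] [Algebra L L'] (a : L')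
    (ha : IntermediateField.adjoin L {a} = ⊤) (S : Type u) [CommRing S] [Algebra L S]
    [LocCoh.IsGorensteinRing S] : LocCoh.IsGorensteinRing (L' ⊗[L] S) := by
  haveI := isGorensteinRing_polynomial S
  let χ : Polynomial S ≃ₐ[L] Polynomial L ⊗[L] S :=
    (polyEquivTensor L S).trans (Algebra.TensorProduct.comm L S (Polynomial L))
  haveI := isGorensteinRing_of_ringEquiv χ.toRingEquiv
  by_cases halg : IsIntegral L a
  · let f := minpoly L a
    let e0 : AdjoinRoot f ≃ₐ[L] L' := (IntermediateField.adjoinRootEquivAdjoin L halg).trans
      ((IntermediateField.equivOfEq ha).trans IntermediateField.topEquiv)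
    have hreg : IsSMulRegular (Polynomial L ⊗[L] S) (algebraMap (Polynomial L) (Polynomial L ⊗[L] S) f) := by
      have h : χ.symm (algebraMap (Polynomial L) (Polynomial L ⊗[L] S) f) = f.map (algebraMap L S) := by
        show (polyEquivTensor L S).symm ((1 : S) ⊗ₜ[L] f) = _
        rw [polyEquivTensor_symm_apply_tmul_eq_smul, one_smul]
      intro x y hxy
      apply χ.symm.injective
      have := congrArg χ.symm hxy
      simp only [smul_eq_mul, map_mul, h] at this
      exact ((minpoly.monic halg).map (algebraMap L S)).isRegular.left this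
    haveI := isGorensteinRing_quotient_span hreg
    have hI : (Ideal.span {f} : Ideal (Polynomial L)).map (algebraMap (Polynomial L) (Polynomial L ⊗[L] S)) =
        Ideal.span {algebraMap (Polynomial L) (Polynomial L ⊗[L] S) f} := by
      rw [Ideal.map_span, Set.image_singleton]
    exact isGorensteinRing_of_ringEquiv
      (R := Polynomial L ⊗[L] S ⧸ Ideal.span {algebraMap (Polynomial L) (Polynomial L ⊗[L] S) f})
      ((Ideal.quotEquivOfEq hI.symm).trans
      (((Algebra.TensorProduct.quotientTensorEquiv (R := L) L S (Polynomial L) (Ideal.span {f})).symm.toRingEquiv).trans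
        (Algebra.TensorProduct.congr e0 AlgEquiv.refl).toRingEquiv))
  · letI : Algebra (Polynomial L) L' := (Polynomial.aeval a).toRingHom.toAlgebra
    haveI : IsScalarTower L (Polynomial L) L' :=
      IsScalarTower.of_algebraMap_eq fun x => ((Polynomial.aeval a).commutes x).symm
    have hinj : Function.Injective (Polynomial.aeval a : Polynomial L →ₐ[L] L') := by
      rw [← transcendental_iff_injective]
      exact fun h => halg h.isIntegral
    haveI : FaithfulSMul (Polynomial L) L' := (faithfulSMul_iff_algebraMap_injective _ _).2 hinj
    haveI : IsFractionRing (Polynomial L) L' := by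
      refine IsFractionRing.of_field (Polynomial L) L' fun z => ?_
      obtain ⟨r, s, hz⟩ := (IntermediateField.mem_adjoin_simple_iff L z).1 (ha ▸ IntermediateField.mem_top)
      exact ⟨r, s, hz⟩
    let χ' : Polynomial L ⊗[L] S →+* L' ⊗[L] S :=
      (Algebra.TensorProduct.map (IsScalarTower.toAlgHom L (Polynomial L) L') (AlgHom.id L S)).toRingHom
    letI : Algebra (S ⊗[L] Polynomial L) (S ⊗[L] L') :=
      (Algebra.TensorProduct.map (AlgHom.id S S) (IsScalarTower.toAlgHom L (Polynomial L) L')).toRingHom.toAlgebra
    haveI : IsScalarTower S (S ⊗[L] Polynomial L) (S ⊗[L] L') :=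
      IsScalarTower.of_algebraMap_eq' (R := S) (S := S ⊗[L] Polynomial L) (A := S ⊗[L] L')
        (AlgHom.comp_algebraMap (Algebra.TensorProduct.map (AlgHom.id S S)
          (IsScalarTower.toAlgHom L (Polynomial L) L'))).symm
    have H : (algebraMap (S ⊗[L] Polynomial L) (S ⊗[L] L')).comp Algebra.TensorProduct.includeRight.toRingHom =
        Algebra.TensorProduct.includeRight.toRingHom.comp (algebraMap (Polynomial L) L') := by
      refine RingHom.ext fun x => ?_
      show Algebra.TensorProduct.map (AlgHom.id S S) (IsScalarTower.toAlgHom L (Polynomial L) L') ((1 : S) ⊗ₜ[L] x) =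
        (1 : S) ⊗ₜ[L] algebraMap (Polynomial L) L' x
      rw [Algebra.TensorProduct.map_tmul, AlgHom.id_apply]
      rfl
    haveI := IsLocalization.tensorProduct_tensorProduct_right (S := S) (R := L)
      (nonZeroDivisors (Polynomial L)) L' H
    haveI := isGorensteinRing_of_ringEquiv (polyEquivTensor L S).toRingEquiv
    haveI := isGorensteinRing_of_isLocalization
      ((nonZeroDivisors (Polynomial L)).map (Algebra.TensorProduct.includeRight (R := L) (A := S))) (S ⊗[L] L')
    exact isGorensteinRing_of_ringEquiv (Algebra.TensorProduct.comm L S L').toRingEquiv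

/-- A finitely generated extension of the ground field. -/
theorem isGorensteinRing_tensor_fg {k K : Type u} [Field k] [Field K] [Algebra k K]
    (hK : ∃ s : Finset K, IntermediateField.adjoin k (s : Set K) = ⊤) (R : Type u) [CommRing R]
    [Algebra k R] [LocCoh.IsGorensteinRing R] : LocCoh.IsGorensteinRing (K ⊗[k] R) := by
  classical
  obtain ⟨s, hs⟩ := hK
  suffices ∀ L : IntermediateField k K, (∃ t : Finset K, IntermediateField.adjoin k (t : Set K) = L) →
      LocCoh.IsGorensteinRing (L ⊗[k] R) by
    haveI := this ⊤ ⟨s, hs⟩
    exact isGorensteinRing_of_ringEquiv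
      (Algebra.TensorProduct.congr (IntermediateField.topEquiv (F := k) (E := K)) AlgEquiv.refl).toRingEquiv
  rintro L ⟨t, rfl⟩
  induction t using Finset.induction_on with
  | empty =>
    rw [Finset.coe_empty, IntermediateField.adjoin_empty]
    exact isGorensteinRing_of_ringEquiv ((Algebra.TensorProduct.lid k R).symm.toRingEquiv.trans
      (Algebra.TensorProduct.congr (IntermediateField.botEquiv k K).symm AlgEquiv.refl).toRingEquiv)
  | insert a t _ ih =>
    let L := IntermediateField.adjoin k (t : Set K)
    let L' := IntermediateField.adjoin L {a}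
    haveI := isGorensteinRing_tensor_of_adjoin_eq_top (L := L) (L' := L')
      (IntermediateField.AdjoinSimple.gen L a)
      (IntermediateField.lift_injective L' (by
        rw [IntermediateField.lift_adjoin_simple, IntermediateField.lift_top, IntermediateField.AdjoinSimple.coe_gen]))
      (L ⊗[k] R)
    have he : IntermediateField.restrictScalars k L' = IntermediateField.adjoin k ((insert a t : Finset K) : Set K) := by
      rw [IntermediateField.restrictScalars_adjoin_eq_sup, Finset.coe_insert, Set.insert_eq,
        IntermediateField.adjoin_union, sup_comm]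
    let eL : L' ≃ₐ[k] IntermediateField.adjoin k ((insert a t : Finset K) : Set K) :=
      AlgEquiv.ofRingEquiv (f := (RingEquiv.refl L').trans (IntermediateField.equivOfEq he).toRingEquiv) fun _ => rfl
    exact isGorensteinRing_of_ringEquiv ((Algebra.TensorProduct.cancelBaseChange k L L L' R).toRingEquiv.trans
      (Algebra.TensorProduct.congr eL AlgEquiv.refl).toRingEquiv)

end GrothGoren
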