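import Groth.Agent.Matlis.Hull
import Mathlib.Algebra.Category.ModuleCat.Ext.Finite
import Mathlib.Algebra.Category.ModuleCat.Ext.HasExt
import Mathlib.Algebra.Category.ModuleCat.EpiMono
import Mathlib.CategoryTheory.Abelian.Injective.Dimension
import Mathlib.Algebra.Homology.DerivedCategory.Ext.Linear
import Mathlib.RingTheory.LocalProperties.Injective
import Mathlib.Algebra.Module.LocalizedModule.Exact
import Mathlib.RingTheory.Ideal.AssociatedPrime.Finiteness

/-!
# Injective dimension of modules: criteria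

Helper library (no milestone statements here).
-/

universe u

open CategoryTheory

namespace GrothGoren

variable {R : Type u} [CommRing R]

/-- `Ext^i(N, M)` vanishes. -/
abbrev ExtZ (R : Type u) [CommRing R] (N M : Type u) [AddCommGroup N] [Module R N] [AddCommGroup M]
    [Module R M] (i : ℕ) : Prop :=
  Subsingleton (Abelian.Ext (ModuleCat.of R N) (ModuleCat.of R M) i)

/-- Injective dimension `< n`. -/
abbrev InjLT (R : Type u) [CommRing R] (M : Type u) [AddCommGroup M] [Module R M] (n : ℕ) : Prop :=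
  HasInjectiveDimensionLT (ModuleCat.of R M) n

section Sequences

variable {A B C N : Type u} [AddCommGroup A] [Module R A] [AddCommGroup B] [Module R B]
  [AddCommGroup C] [Module R C] [AddCommGroup N] [Module R N]

/-- The short complex of a short exact sequence of linear maps. -/
abbrev seqCx (f : A →ₗ[R] B) (g : B →ₗ[R] C) (hex : Function.Exact f g) :
    ShortComplex (ModuleCat.{u} R) :=
  ShortComplex.mk (ModuleCat.ofHom f) (ModuleCat.ofHom g)
    (by ext x; exact hex.apply_apply_eq_zero x)

theorem seqCx_shortExact (f : A →ₗ[R] B) (g : B →ₗ[R] C) (hex : Function.Exact f g)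
    (hf : Function.Injective f) (hg : Function.Surjective g) :
    (seqCx f g hex).ShortExact where
  mono_f := (ModuleCat.mono_iff_injective _).2 hf
  epi_g := (ModuleCat.epi_iff_surjective _).2 hg
  exact := (ShortComplex.moduleCat_exact_iff _).2 fun x hx => (hex x).1 hx

variable {f : A →ₗ[R] B} {g : B →ₗ[R] C}

theorem extZ_right (hex : Function.Exact f g) (hf : Function.Injective f)
    (hg : Function.Surjective g) {i : ℕ} (h₂ : ExtZ R N B i) (h₁ : ExtZ R N A (i + 1)) :
    ExtZ R N C i := by
  refine subsingleton_of_forall_eq 0 fun x => ?_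
  obtain ⟨y, rfl⟩ := Abelian.Ext.covariant_sequence_exact₃ (ModuleCat.of R N)
    (seqCx_shortExact f g hex hf hg) x rfl (Subsingleton.elim (h := h₁) _ _)
  rw [Subsingleton.elim (h := h₂) y 0, Abelian.Ext.zero_comp]

theorem extZ_left (hex : Function.Exact f g) (hf : Function.Injective f)
    (hg : Function.Surjective g) {i : ℕ} (h₃ : ExtZ R N C i) (h₂ : ExtZ R N B (i + 1)) :
    ExtZ R N A (i + 1) := by
  refine subsingleton_of_forall_eq 0 fun x => ?_
  obtain ⟨y, rfl⟩ := Abelian.Ext.covariant_sequence_exact₁ (ModuleCat.of R N)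
    (seqCx_shortExact f g hex hf hg) x (Subsingleton.elim (h := h₂) _ _) rfl
  rw [Subsingleton.elim (h := h₃) y 0, Abelian.Ext.zero_comp]

theorem extZ_mid (hex : Function.Exact f g) (hf : Function.Injective f)
    (hg : Function.Surjective g) {i : ℕ} (h₁ : ExtZ R N A i) (h₃ : ExtZ R N C i) :
    ExtZ R N B i := by
  refine subsingleton_of_forall_eq 0 fun x => ?_
  obtain ⟨y, rfl⟩ := Abelian.Ext.covariant_sequence_exact₂ (ModuleCat.of R N)
    (seqCx_shortExact f g hex hf hg) x (Subsingleton.elim (h := h₃) _ _)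
  rw [Subsingleton.elim (h := h₁) y 0, Abelian.Ext.zero_comp]

theorem extZ_contra_mid (hex : Function.Exact f g) (hf : Function.Injective f)
    (hg : Function.Surjective g) {i : ℕ} (h₁ : ExtZ R A N i) (h₃ : ExtZ R C N i) :
    ExtZ R B N i := by
  refine subsingleton_of_forall_eq 0 fun x => ?_
  obtain ⟨y, rfl⟩ := Abelian.Ext.contravariant_sequence_exact₂ (seqCx_shortExact f g hex hf hg)
    (ModuleCat.of R N) x (Subsingleton.elim (h := h₁) _ _)
  rw [Subsingleton.elim (h := h₃) y 0, Abelian.Ext.comp_zero]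

theorem extZ_of_equiv (e : A ≃ₗ[R] B) {i : ℕ} (h : ExtZ R N A i) : ExtZ R N B i := by
  refine extZ_mid (A := A) (C := PUnit.{u + 1}) (f := e.toLinearMap) (g := 0) ?_ e.injective
    (fun x => ⟨0, Subsingleton.elim _ _⟩) h ?_
  · intro x
    exact ⟨fun _ => ⟨e.symm x, by simp⟩, fun _ => rfl⟩
  · refine subsingleton_of_forall_eq 0 fun x => ?_
    have hz : (𝟙 (ModuleCat.of R PUnit.{u + 1})) = 0 := by ext y
    rw [← x.comp_mk₀_id, hz, Abelian.Ext.mk₀_zero, Abelian.Ext.comp_zero]

theorem extZ_of_equiv_left (e : A ≃ₗ[R] B) {i : ℕ} (h : ExtZ R A N i) : ExtZ R B N i := by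
  refine extZ_contra_mid (A := A) (C := PUnit.{u + 1}) (f := e.toLinearMap) (g := 0) ?_ e.injective
    (fun x => ⟨0, Subsingleton.elim _ _⟩) h ?_
  · intro x
    exact ⟨fun _ => ⟨e.symm x, by simp⟩, fun _ => rfl⟩
  · refine subsingleton_of_forall_eq 0 fun x => ?_
    have hz : (𝟙 (ModuleCat.of R PUnit.{u + 1})) = 0 := by ext y
    rw [← Abelian.Ext.mk₀_id_comp x, hz, Abelian.Ext.mk₀_zero, Abelian.Ext.zero_comp]

theorem extZ_of_injective [Module.Injective R B] {i : ℕ} : ExtZ R N B (i + 1) := by
  haveI := Module.injective_object_of_injective_module R B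
  exact Abelian.Ext.subsingleton_of_injective _ _ i

theorem extZ_zero_iff : ExtZ R N A 0 ↔ Subsingleton (N →ₗ[R] A) :=
  (Abelian.Ext.addEquiv₀.trans ModuleCat.homAddEquiv).toEquiv.subsingleton_congr

/-- `Ext^1` vanishes iff homomorphisms to the cokernel lift, when the middle term is injective. -/
theorem extZ_one_iff (hex : Function.Exact f g) (hf : Function.Injective f)
    (hg : Function.Surjective g) [Module.Injective R B] :
    ExtZ R N A 1 ↔ Function.Surjective (fun u : N →ₗ[R] B => g ∘ₗ u) := by
  have hS := seqCx_shortExact f g hex hf hg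
  constructor
  · intro h u
    obtain ⟨y, hy⟩ := Abelian.Ext.covariant_sequence_exact₃ (ModuleCat.of R N) hS
      (Abelian.Ext.mk₀ (ModuleCat.ofHom u)) rfl (Subsingleton.elim (h := h) _ _)
    obtain ⟨v, rfl⟩ := (Abelian.Ext.mk₀_bijective _ _).2 y
    rw [Abelian.Ext.mk₀_comp_mk₀] at hy
    exact ⟨v.hom, congrArg ModuleCat.Hom.hom ((Abelian.Ext.mk₀_bijective _ _).1 hy)⟩
  · intro h
    refine subsingleton_of_forall_eq 0 fun x => ?_
    obtain ⟨y, rfl⟩ := Abelian.Ext.covariant_sequence_exact₁ (ModuleCat.of R N) hS x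
      (Subsingleton.elim (h := extZ_of_injective (i := 0)) _ _) rfl
    obtain ⟨v, rfl⟩ := (Abelian.Ext.mk₀_bijective _ _).2 y
    obtain ⟨w, hw⟩ := h v.hom
    have : v = ModuleCat.ofHom w ≫ (seqCx f g hex).g := by
      ext z
      exact (LinearMap.congr_fun hw z).symm
    rw [this, ← Abelian.Ext.mk₀_comp_mk₀, Abelian.Ext.comp_assoc_of_second_deg_zero, hS.comp_extClass,
      Abelian.Ext.comp_zero]

end Sequences

section Dimension

variable {M : Type u} [AddCommGroup M] [Module R M]

theorem injLT_zero_iff : InjLT R M 0 ↔ Subsingleton M := by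
  rw [InjLT, hasInjectiveDimensionLT_zero_iff_isZero]
  exact ⟨fun h => ModuleCat.subsingleton_of_isZero h,
    fun _ => ModuleCat.isZero_of_subsingleton _⟩

theorem injLT_one_iff : InjLT R M 1 ↔ Module.Injective R M := by
  rw [Module.injective_iff_injective_object, InjLT, ← injective_iff_hasInjectiveDimensionLT_one]

theorem injLT_mono {n m : ℕ} (h : n ≤ m) (hM : InjLT R M n) : InjLT R M m :=
  hasInjectiveDimensionLT_of_ge _ n m h

theorem InjLT.extZ {n : ℕ} (hM : InjLT R M n) (N : Type u) [AddCommGroup N] [Module R N] {i : ℕ}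
    (hi : n ≤ i) : ExtZ R N M i :=
  HasInjectiveDimensionLT.subsingleton (ModuleCat.of R M) n i hi (ModuleCat.of R N)

theorem injLT_of_equiv {M' : Type u} [AddCommGroup M'] [Module R M'] (e : M ≃ₗ[R] M') {n : ℕ}
    (h : InjLT R M n) : InjLT R M' n :=
  hasInjectiveDimensionLT_of_iso e.toModuleIso n

theorem injLT_succ_iff {A B C : Type u} [AddCommGroup A] [Module R A] [AddCommGroup B] [Module R B]
    [AddCommGroup C] [Module R C] {f : A →ₗ[R] B} {g : B →ₗ[R] C} (hex : Function.Exact f g)
    (hf : Function.Injective f) (hg : Function.Surjective g) [Module.Injective R B] (n : ℕ) :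
    InjLT R A (n + 2) ↔ InjLT R C (n + 1) :=
  ((seqCx_shortExact f g hex hf hg).hasInjectiveDimensionLT_X₃_iff n
    (Module.injective_object_of_injective_module R B)).symm

variable (R M) in
theorem exists_injective_sequence : ∃ (J : Type u) (_ : AddCommGroup J) (_ : Module R J)
    (j : M →ₗ[R] J), Function.Injective j ∧ Module.Injective R J :=
  GrothMatlis.exists_embedding R M

/-- Vanishing of `Ext^(n+1)(R/I, M)` for all ideals `I` bounds the injective dimension. -/
theorem injLT_of_forall_cyclic : ∀ (n : ℕ) (M : Type u) [AddCommGroup M] [Module R M],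
    (∀ I : Ideal R, ExtZ R (R ⧸ I) M (n + 1)) → InjLT R M (n + 1) := by
  intro n
  induction n with
  | zero =>
    intro M _ _ h
    obtain ⟨J, _, _, j, hj, hJ⟩ := exists_injective_sequence R M
    rw [injLT_one_iff]
    refine Module.Baer.injective fun a g => ?_
    obtain ⟨k, hk⟩ := (GrothMatlis.baer hJ) a (j ∘ₗ g)
    have hs := (extZ_one_iff (N := R ⧸ a) (f := j) (g := (LinearMap.range j).mkQ)
      (LinearMap.exact_map_mkQ_range j) hj (Submodule.mkQ_surjective _)).1 (h a)
    obtain ⟨w, hw⟩ := hs (a.liftQ ((LinearMap.range j).mkQ ∘ₗ k) fun r hr => by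
      rw [LinearMap.mem_ker, LinearMap.comp_apply, hk r hr, LinearMap.comp_apply,
        Submodule.mkQ_apply, (Submodule.Quotient.mk_eq_zero _).2 (LinearMap.mem_range_self j _)])
    have hmem : ∀ r, (k - w ∘ₗ a.mkQ) r ∈ LinearMap.range j := fun r => by
      rw [LinearMap.sub_apply, LinearMap.comp_apply, Submodule.mkQ_apply, ← Submodule.Quotient.eq]
      exact (LinearMap.congr_fun hw (Submodule.Quotient.mk r)).symm
    let e := LinearEquiv.ofInjective j hj
    refine ⟨e.symm.toLinearMap ∘ₗ (LinearMap.codRestrict (LinearMap.range j) (k - w ∘ₗ a.mkQ) hmem),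
      fun r hr => hj ?_⟩
    rw [LinearMap.comp_apply, LinearEquiv.coe_coe, ← LinearEquiv.ofInjective_apply (f := j) (h := hj),
      LinearEquiv.apply_symm_apply, LinearMap.codRestrict_apply, LinearMap.sub_apply,
      LinearMap.comp_apply, Submodule.mkQ_apply, (Submodule.Quotient.mk_eq_zero a).2 hr, map_zero,
      sub_zero, hk r hr, LinearMap.comp_apply]
  | succ n ih =>
    intro M _ _ h
    obtain ⟨J, _, _, j, hj, hJ⟩ := exists_injective_sequence R M
    rw [injLT_succ_iff (LinearMap.exact_map_mkQ_range j) hj (Submodule.mkQ_surjective _) n]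
    exact ih _ fun I => extZ_right (LinearMap.exact_map_mkQ_range j) hj (Submodule.mkQ_surjective _)
      extZ_of_injective (h I)

end Dimension

section Localization

variable [IsNoetherianRing R] (S : Submonoid R)

theorem injLT_localized : ∀ (n : ℕ) (M : Type u) [AddCommGroup M] [Module R M],
    InjLT R M (n + 1) → InjLT (Localization S) (LocalizedModule S M) (n + 1) := by
  intro n
  induction n with
  | zero =>
    intro M _ _ h
    rw [injLT_one_iff] at h ⊢
    exact Module.injective_of_isLocalizedModule S (LocalizedModule.mkLinearMap S M)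
  | succ n ih =>
    intro M _ _ h
    obtain ⟨J, _, _, j, hj, hJ⟩ := exists_injective_sequence R M
    rw [injLT_succ_iff (LinearMap.exact_map_mkQ_range j) hj (Submodule.mkQ_surjective _) n] at h
    haveI : Module.Injective (Localization S) (LocalizedModule S J) :=
      Module.injective_of_isLocalizedModule S (LocalizedModule.mkLinearMap S J)
    rw [injLT_succ_iff (f := LocalizedModule.map S j)
      (g := LocalizedModule.map S (LinearMap.range j).mkQ)
      (LocalizedModule.map_exact S j (LinearMap.range j).mkQ (LinearMap.exact_map_mkQ_range j))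
      (LocalizedModule.map_injective S j hj)
      (LocalizedModule.map_surjective S (LinearMap.range j).mkQ (Submodule.mkQ_surjective _)) n]
    exact ih _ h

theorem injLT_of_localized_maximal : ∀ (n : ℕ) (M : Type u) [AddCommGroup M] [Module R M],
    (∀ (m : Ideal R) [m.IsMaximal],
      InjLT (Localization.AtPrime m) (LocalizedModule m.primeCompl M) (n + 1)) →
      InjLT R M (n + 1) := by
  intro n
  induction n with
  | zero =>
    intro M _ _ h
    rw [injLT_one_iff]
    refine Module.injective_of_localization_maximal fun m hm => ?_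
    exact injLT_one_iff.1 (h m)
  | succ n ih =>
    intro M _ _ h
    obtain ⟨J, _, _, j, hj, hJ⟩ := exists_injective_sequence R M
    rw [injLT_succ_iff (LinearMap.exact_map_mkQ_range j) hj (Submodule.mkQ_surjective _) n]
    refine ih _ fun m hm => ?_
    haveI : Module.Injective (Localization.AtPrime m) (LocalizedModule m.primeCompl J) :=
      Module.injective_of_isLocalizedModule m.primeCompl
        (LocalizedModule.mkLinearMap m.primeCompl J)
    have := h m
    rwa [injLT_succ_iff (f := LocalizedModule.map m.primeCompl j)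
      (g := LocalizedModule.map m.primeCompl (LinearMap.range j).mkQ)
      (LocalizedModule.map_exact m.primeCompl j (LinearMap.range j).mkQ
        (LinearMap.exact_map_mkQ_range j))
      (LocalizedModule.map_injective m.primeCompl j hj)
      (LocalizedModule.map_surjective m.primeCompl (LinearMap.range j).mkQ
        (Submodule.mkQ_surjective _)) n] at this

end Localization

section Local

open IsLocalRing

variable [IsLocalRing R] [IsNoetherianRing R]
variable {M : Type u} [AddCommGroup M] [Module R M] [Module.Finite R M]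

/-- If `Ext^i(k, M) = 0` for all `i ≥ N` then `Ext^i(L, M) = 0` for all finite `L` and `i ≥ N`. -/
theorem extZ_of_residueField {N : ℕ} (h : ∀ i, N ≤ i → ExtZ R (ResidueField R) M i)
    (L : Type u) [AddCommGroup L] [Module R L] [Module.Finite R L] :
    ∀ i, N ≤ i → ExtZ R L M i := by
  suffices key : ∀ I : Ideal R, I.IsPrime → ∀ i, N ≤ i → ExtZ R (R ⧸ I) M i by
    induction (inferInstance : Module.Finite R L) using
      IsNoetherianRing.induction_on_isQuotientEquivQuotientPrime R with
    | subsingleton Q =>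
      intro i hi
      refine subsingleton_of_forall_eq 0 fun x => ?_
      have hz : (𝟙 (ModuleCat.of R Q)) = 0 := by
        ext y
        exact Subsingleton.elim _ _
      rw [← Abelian.Ext.mk₀_id_comp x, hz, Abelian.Ext.mk₀_zero, Abelian.Ext.zero_comp]
    | quotient Q p e => exact fun i hi => extZ_of_equiv_left e.symm (key p.1 p.2 i hi)
    | exact N₁ N₂ N₃ f g hf hg hfg h₁ h₃ =>
      exact fun i hi => extZ_contra_mid hfg hf hg (h₁ i hi) (h₃ i hi)
  intro I
  induction I using (IsNoetherian.induction (R := R) (M := R)) with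
  | hgt I ih =>
  intro hI i hi
  by_cases hmax : I = maximalIdeal R
  · subst hmax; exact h i hi
  obtain ⟨x, hxm, hxI⟩ := Set.not_subset.1 fun hle : maximalIdeal R ≤ I =>
    hmax ((maximalIdeal.isMaximal R).eq_of_le hI.ne_top hle).symm
  let μ : (R ⧸ I) →ₗ[R] (R ⧸ I) := LinearMap.lsmul R (R ⧸ I) x
  have hμ : Function.Injective μ := by
    rw [← LinearMap.ker_eq_bot, Submodule.eq_bot_iff]
    intro q hq
    obtain ⟨r, rfl⟩ := Ideal.Quotient.mk_surjective q
    have : Ideal.Quotient.mk I (x * r) = 0 := hq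
    rw [Ideal.Quotient.eq_zero_iff_mem] at this ⊢
    exact (hI.mem_or_mem this).resolve_left hxI
  -- the cokernel is finite and supported above `I`
  have hC : ∀ j, N ≤ j → ExtZ R ((R ⧸ I) ⧸ LinearMap.range μ) M j := by
    have hann : ∀ q : (R ⧸ I) ⧸ LinearMap.range μ, ∀ r ∈ I ⊔ Ideal.span {x}, r • q = 0 := by
      intro q r hr
      obtain ⟨v, rfl⟩ := Submodule.mkQ_surjective _ q
      obtain ⟨a, ha, b, hb, rfl⟩ := Submodule.mem_sup.1 hr
      obtain ⟨c, rfl⟩ := Ideal.mem_span_singleton'.1 hb
      rw [← map_smul, Submodule.mkQ_apply, Submodule.Quotient.mk_eq_zero, add_smul]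
      refine ⟨c • v, ?_⟩
      obtain ⟨w, rfl⟩ := Ideal.Quotient.mk_surjective v
      rw [show a • Ideal.Quotient.mk I w = 0 by
        rw [Algebra.smul_def, Ideal.Quotient.algebraMap_eq, Ideal.Quotient.eq_zero_iff_mem.2 ha,
          zero_mul], zero_add, mul_smul]
      exact smul_comm x c _
    intro j hj
    clear i hi
    suffices H : ∀ (Q : Type u) [AddCommGroup Q] [Module R Q] [Module.Finite R Q],
        (∀ q : Q, ∀ r ∈ I ⊔ Ideal.span {x}, r • q = 0) → ExtZ R Q M j from H _ hann
    clear hann
    intro Q _ _ _ hann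
    induction (inferInstance : Module.Finite R Q) using
      IsNoetherianRing.induction_on_isQuotientEquivQuotientPrime R with
    | subsingleton Q =>
      refine subsingleton_of_forall_eq 0 fun x => ?_
      have hz : (𝟙 (ModuleCat.of R Q)) = 0 := by
        ext y
        exact Subsingleton.elim _ _
      rw [← Abelian.Ext.mk₀_id_comp x, hz, Abelian.Ext.mk₀_zero, Abelian.Ext.zero_comp]
    | quotient Q p e =>
      refine extZ_of_equiv_left e.symm (ih p.1 (lt_of_le_of_ne ?_ ?_) p.2 j hj)
      · intro r hr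
        have := congrArg e (hann (e.symm 1) r (Submodule.mem_sup_left hr))
        rw [map_smul, map_zero, LinearEquiv.apply_symm_apply, Algebra.smul_def, mul_one,
          Ideal.Quotient.algebraMap_eq, Ideal.Quotient.eq_zero_iff_mem] at this
        exact this
      · intro heq
        have := congrArg e (hann (e.symm 1) x
          (Submodule.mem_sup_right (Ideal.mem_span_singleton_self x)))
        rw [map_smul, map_zero, LinearEquiv.apply_symm_apply, Algebra.smul_def, mul_one,
          Ideal.Quotient.algebraMap_eq, Ideal.Quotient.eq_zero_iff_mem] at this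
        exact hxI (heq ▸ this)
    | exact N₁ N₂ N₃ f g hf hg hfg h₁ h₃ =>
      refine extZ_contra_mid hfg hf hg (h₁ fun q r hr => hf ?_) (h₃ fun q r hr => ?_)
      · rw [map_smul, map_zero, hann _ r hr]
      · obtain ⟨w, rfl⟩ := hg q
        rw [← map_smul, hann _ r hr, map_zero]
  haveI : Module.Finite R (Abelian.Ext (ModuleCat.of R (R ⧸ I)) (ModuleCat.of R M) i) :=
    ModuleCat.finite_ext R (ModuleCat.of R (R ⧸ I)) (ModuleCat.of R M) i
  have hS := seqCx_shortExact μ (LinearMap.range μ).mkQ (LinearMap.exact_map_mkQ_range μ) hμ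
    (Submodule.mkQ_surjective _)
  have hμeq : (ModuleCat.ofHom μ : ModuleCat.of R (R ⧸ I) ⟶ ModuleCat.of R (R ⧸ I)) =
      x • 𝟙 (ModuleCat.of R (R ⧸ I)) := by
    ext q
    rfl
  have hsurj : ∀ α : Abelian.Ext (ModuleCat.of R (R ⧸ I)) (ModuleCat.of R M) i,
      ∃ β : Abelian.Ext (ModuleCat.of R (R ⧸ I)) (ModuleCat.of R M) i, x • β = α := by
    intro α
    obtain ⟨β, hβ⟩ := Abelian.Ext.contravariant_sequence_exact₁ hS (ModuleCat.of R M) α
      (n₁ := 1 + i) rfl (Subsingleton.elim (h := hC _ (by omega)) _ _)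
    refine ⟨β, ?_⟩
    rw [← hβ]
    show _ = (Abelian.Ext.mk₀ (ModuleCat.ofHom μ)).comp β (zero_add i)
    rw [hμeq]
    simp [Abelian.Ext.mk₀_smul]
  have htop : (⊤ : Submodule R (Abelian.Ext (ModuleCat.of R (R ⧸ I)) (ModuleCat.of R M) i)) ≤
      Ideal.span {x} • ⊤ := fun α _ => by
    obtain ⟨β, rfl⟩ := hsurj α
    exact Submodule.smul_mem_smul (Ideal.mem_span_singleton_self x) Submodule.mem_top
  have h0 := Submodule.eq_bot_of_le_smul_of_le_jacobson_bot (Ideal.span {x}) ⊤
    Module.Finite.fg_top htop (by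
      rw [jacobson_eq_maximalIdeal ⊥ bot_ne_top, Ideal.span_singleton_le_iff_mem]
      exact hxm)
  exact subsingleton_of_forall_eq 0 fun α => (Submodule.eq_bot_iff _).1 h0 α Submodule.mem_top

theorem injLT_of_residueField {n : ℕ}
    (h : ∀ i, n + 1 ≤ i → ExtZ R (ResidueField R) M i) : InjLT R M (n + 1) :=
  injLT_of_forall_cyclic n M fun I => extZ_of_residueField h (R ⧸ I) (n + 1) le_rfl

theorem exists_injLT_iff :
    (∃ n, InjLT R M n) ↔ ∃ N : ℕ, ∀ i, N ≤ i → ExtZ R (ResidueField R) M i :=
  ⟨fun ⟨n, hn⟩ => ⟨n, fun _ hi => hn.extZ _ hi⟩,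
    fun ⟨N, hN⟩ => ⟨N + 1, injLT_of_residueField fun i hi => hN i (by omega)⟩⟩

end Local

end GrothGoren
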