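import Groth.Agent.Gorenstein.BaseChange
import Groth.Agent.KoszulReg.Relations
import Groth.Agent.KoszulLCI.Pres
import Groth.Agent.DualCore.FibreGorenstein
import Groth.Agent.S2868
import Mathlib.RingTheory.Flat.EquationalCriterion
import Mathlib.RingTheory.RegularLocalRing.Polynomial

/-!
# Local complete intersections and the Gorenstein property
-/

set_option autoImplicit false

universe u

open TensorProduct IsLocalRing RingTheory.Sequence

namespace GrothGoren

/-- Quotients of Gorenstein local rings by weakly regular sequences. -/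
theorem exists_injLT_quotient_ofList : ∀ (l : ℕ) (R : Type u) [CommRing R] [IsLocalRing R] [IsNoetherianRing R]
    (rs : List R), rs.length = l → (∀ r ∈ rs, r ∈ maximalIdeal R) → IsWeaklyRegular R rs →
    (∃ n, InjLT R R n) → ∃ n, InjLT (R ⧸ Ideal.ofList rs) (R ⧸ Ideal.ofList rs) n := by
  intro l
  induction l with
  | zero =>
    intro R _ _ _ rs hlen _ _ h
    obtain rfl := List.eq_nil_of_length_eq_zero hlen
    exact (exists_injLT_iff_of_ringEquiv
      ((Ideal.quotEquivOfEq (Ideal.ofList_nil (R := R))).trans (RingEquiv.quotientBot R))).mpr h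
  | succ l ih =>
    intro R _ _ _ rs hlen hmem hreg h
    obtain ⟨x, tl, rfl⟩ : ∃ x tl, rs = x :: tl := by
      cases rs with
      | nil => simp at hlen
      | cons x tl => exact ⟨x, tl, rfl⟩
    rw [isWeaklyRegular_cons_iff'] at hreg
    have hx : x ∈ maximalIdeal R := hmem x (List.mem_cons_self ..)
    have hle : Ideal.span {x} ≤ maximalIdeal R := (Ideal.span_singleton_le_iff_mem _).mpr hx
    have : Nontrivial (R ⧸ Ideal.span {x}) :=
      Ideal.Quotient.nontrivial_iff.mpr (ne_top_of_le_ne_top (maximalIdeal.isMaximal R).ne_top hle)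
    have : IsLocalRing (R ⧸ Ideal.span {x}) := .of_surjective' (Ideal.Quotient.mk _) Ideal.Quotient.mk_surjective
    refine (exists_injLT_iff_of_ringEquiv (((Ideal.quotEquivOfEq (Ideal.map_ofList _ _).symm).trans
        (DoubleQuot.quotQuotEquivQuotSup _ _)).trans (Ideal.quotEquivOfEq (Ideal.ofList_cons x tl).symm))).mp
      (ih (R ⧸ Ideal.span {x}) (tl.map (Ideal.Quotient.mk _)) (by simpa using hlen) ?_ ?_
        ((exists_injLT_quotient_iff R hx hreg.1).mp h))
    · intro r hr
      obtain ⟨r, hr', rfl⟩ := List.mem_map.mp hr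
      rw [IsLocalRing.mem_maximalIdeal, mem_nonunits_iff]
      intro hu
      haveI : IsLocalHom (Ideal.Quotient.mk (Ideal.span {x})) :=
        IsLocalHom.of_surjective _ Ideal.Quotient.mk_surjective
      exact (IsLocalRing.mem_maximalIdeal _).mp (hmem r (List.mem_cons_of_mem _ hr')) (isUnit_of_map_unit _ r hu)
    · let e : QuotSMulTop x R ≃ₗ[R ⧸ Ideal.span {x}] R ⧸ Ideal.span {x} :=
        LinearEquiv.extendScalarsOfSurjective (R := R) Ideal.Quotient.mk_surjective
          (Submodule.quotEquivOfEq _ _ (by rw [← Submodule.ideal_span_singleton_smul, Ideal.smul_eq_mul, Ideal.mul_top]))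
      exact (e.isWeaklyRegular_congr _).mp hreg.2

/-- Weak regularity from trivial relations. -/
theorem isWeaklyRegular_of_koszulH1Zero_get {R : Type u} [CommRing R] [IsLocalRing R] [IsNoetherianRing R]
    {n : ℕ} (f : Fin n → R) (hf : ∀ i, f i ∈ maximalIdeal R) (h : CInt.KoszulH1Zero f R) :
    IsWeaklyRegular R (List.ofFn f) :=
  Groth.Agent.S2868.result f
    (fun i => by rw [IsLocalRing.jacobson_eq_maximalIdeal ⊥ bot_ne_top]; exact hf i) R h

theorem ofList_eq_span_range {R : Type u} [CommRing R] (l : List R) :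
    Ideal.ofList l = Ideal.span (Set.range l.get) := by
  show Ideal.span _ = _
  congr 1
  ext x
  exact List.mem_iff_get

/-- Quotients of a Gorenstein local quotient by a weakly regular sequence. -/
theorem exists_injLT_quotient_sup {R : Type u} [CommRing R] (a : Ideal R) (l : List R)
    [IsLocalRing (R ⧸ a)] [IsNoetherianRing (R ⧸ a)]
    (hmem : ∀ x ∈ l.map (Ideal.Quotient.mk a), x ∈ maximalIdeal (R ⧸ a))
    (hreg : IsWeaklyRegular (R ⧸ a) (l.map (Ideal.Quotient.mk a))) (h : ∃ n, InjLT (R ⧸ a) (R ⧸ a) n) :
    ∃ n, InjLT (R ⧸ a ⊔ Ideal.ofList l) (R ⧸ a ⊔ Ideal.ofList l) n :=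
  (exists_injLT_iff_of_ringEquiv ((Ideal.quotEquivOfEq (Ideal.map_ofList (Ideal.Quotient.mk a) l).symm).trans
    (DoubleQuot.quotQuotEquivQuotSup a (Ideal.ofList l)))).1
      (exists_injLT_quotient_ofList _ (R ⧸ a) _ rfl hmem hreg h)

section Pres

variable {A B : Type u} [CommRing A] [CommRing B] [Algebra A B] {n : ℕ} (f : MvPolynomial (Fin n) A →ₐ[A] B)
  (hf : Function.Surjective f) (hI : LCI.IsKoszulRegularIdeal (RingHom.ker f.toRingHom))

include hf hI in
/-- A local complete intersection over a Gorenstein ring is Gorenstein. -/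
theorem isGorensteinRing_of_presentation [LocCoh.IsGorensteinRing A] : LocCoh.IsGorensteinRing B := by
  haveI := isGorensteinRing_mvPolynomial n A
  haveI : IsNoetherianRing B := isNoetherianRing_of_surjective _ _ f.toRingHom hf
  refine { isGorensteinLocalRing_localization := fun m _ => (isGorenstein_iff _).2 ?_ }
  let q := m.comap f.toRingHom
  have hIq : RingHom.ker f.toRingHom ≤ q := Ideal.ker_le_comap _
  obtain ⟨g, hg, r, hr⟩ := Groth.KoszulLCI.locReg_of_isKoszulRegularIdeal hI q hIq
  obtain ⟨l, -, hl, hlI⟩ := hr q hg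
  let R := Localization.AtPrime q
  haveI : IsNoetherianRing R := IsLocalization.isNoetherianRing q.primeCompl _ inferInstance
  have hmem : ∀ x ∈ l, x ∈ maximalIdeal R := fun x hx =>
    IsLocalRing.le_maximalIdeal (Groth.KoszulLCI.map_atPrime_ne_top hIq)
      (hlI ▸ Groth.KoszulLCI.mem_ofList hx)
  have hreg : IsWeaklyRegular R (List.ofFn l.get) := isWeaklyRegular_of_koszulH1Zero_get l.get
    (fun i => hmem _ (List.get_mem l i)) (Groth.KoszulReg.koszulH1Zero_of_isKoszulRegularSeq hl)
  rw [List.ofFn_get] at hreg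
  haveI := LocCoh.IsGorensteinRing.isGorensteinLocalRing_localization (A := MvPolynomial (Fin n) A) q
  let θ : R →+* Localization.AtPrime m := Localization.localRingHom q m f.toRingHom rfl
  have hθ : Function.Surjective θ := Groth.KoszulLCI.surjective_localRingHom f.toRingHom hf m
  have hker : RingHom.ker θ = Ideal.ofList l :=
    (Groth.KoszulLCI.ker_localRingHom_eq_map f.toRingHom hf m).trans hlI.symm
  exact (exists_injLT_iff_of_ringEquiv ((Ideal.quotEquivOfEq hker.symm).trans
    (RingHom.quotientKerEquivOfSurjective hθ))).1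
      (exists_injLT_quotient_ofList _ R l rfl hmem hreg ((isGorenstein_iff _).1 inferInstance))

include hf in
/-- For a flat quotient the intersection with an extended ideal is the product. -/
theorem ker_inf_map_le [Module.Flat A B] (p : Ideal A) :
    RingHom.ker f.toRingHom ⊓ p.map (algebraMap A (MvPolynomial (Fin n) A)) ≤
      p.map (algebraMap A (MvPolynomial (Fin n) A)) * RingHom.ker f.toRingHom := by
  classical
  rintro x ⟨hx1, hx2⟩
  obtain ⟨c, hc⟩ := Finsupp.mem_ideal_span_range_iff_exists_finsupp.1
    (show x ∈ Ideal.span (Set.range fun a : p => algebraMap A (MvPolynomial (Fin n) A) a) by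
      rw [Set.range_comp' (algebraMap A (MvPolynomial (Fin n) A)) (fun a : p => (a : A))] at *
      rw [Subtype.range_coe_subtype]
      exact hx2)
  have hrel : ∑ a : c.support, ((a.1 : p) : A) • f (c a.1) = 0 := by
    rw [Finset.sum_coe_sort c.support (fun a : p => (a : A) • f (c a))]
    have h0 : f x = 0 := hx1
    rw [← hc, Finsupp.sum, map_sum] at h0
    rw [← h0]
    refine Finset.sum_congr rfl fun a _ => ?_
    rw [map_mul, AlgHom.commutes, Algebra.smul_def, mul_comm]
  obtain ⟨k, α, y, hy, hα⟩ := Module.Flat.isTrivialRelation_of_sum_smul_eq_zero (R := A) (M := B)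
    (f := fun a : c.support => ((a.1 : p) : A)) (x := fun a => f (c a.1)) hrel
  choose y' hy' using fun j => hf (y j)
  let z : c.support → MvPolynomial (Fin n) A := fun a => c a.1 - ∑ j, α a j • y' j
  have hz : ∀ a, z a ∈ RingHom.ker f.toRingHom := fun a => by
    show f (c a.1 - ∑ j, α a j • y' j) = 0
    rw [map_sub, map_sum, sub_eq_zero]
    refine (hy a).trans ?_
    exact Finset.sum_congr rfl fun j _ => by rw [map_smul, hy']
  have hxz : x = ∑ a : c.support, ((a.1 : p) : A) • z a := by
    simp only [z, smul_sub, Finset.sum_sub_distrib, Finset.smul_sum, smul_smul]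
    have e : ∑ a : c.support, ∑ j, (((a.1 : p) : A) * α a j) • y' j = 0 := by
      rw [Finset.sum_comm]
      exact Finset.sum_eq_zero fun j _ => by rw [← Finset.sum_smul, hα j, zero_smul]
    rw [e, sub_zero, ← hc, Finsupp.sum,
      Finset.sum_coe_sort c.support (fun a : p => (a : A) • c a)]
    exact Finset.sum_congr rfl fun a _ => by rw [Algebra.smul_def, mul_comm]
  rw [hxz]
  exact Ideal.sum_mem _ fun a _ => by
    rw [Algebra.smul_def]
    exact Ideal.mul_mem_mul (Ideal.mem_map_of_mem _ a.1.2) (hz a)

include hf hI in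
/-- The fibre local rings of a flat local complete intersection. -/
theorem exists_injLT_fibre_of_presentation [Module.Flat A B] (m : Ideal B) [m.IsPrime] :
    ∃ k, InjLT (Localization.AtPrime m ⧸ (m.comap (algebraMap A B)).map (algebraMap A (Localization.AtPrime m)))
      (Localization.AtPrime m ⧸ (m.comap (algebraMap A B)).map (algebraMap A (Localization.AtPrime m))) k := by
  let P := MvPolynomial (Fin n) A
  let q := m.comap f.toRingHom
  let p := m.comap (algebraMap A B)
  have hqp : q.comap (algebraMap A P) = p := by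
    show (m.comap f.toRingHom).comap (algebraMap A P) = _
    rw [Ideal.comap_comap]
    exact congrArg (fun g => Ideal.comap g m) f.comp_algebraMap
  have hIq : RingHom.ker f.toRingHom ≤ q := Ideal.ker_le_comap _
  obtain ⟨g, hg, r, hr⟩ := Groth.KoszulLCI.locReg_of_isKoszulRegularIdeal hI q hIq
  obtain ⟨l, -, hl, hlI⟩ := hr q hg
  let R := Localization.AtPrime q
  let pR : Ideal R := p.map (algebraMap A R)
  let S := R ⧸ pR
  -- the fibre ring of the polynomial ring is regular
  obtain ⟨hS, hnoeth⟩ : (∃ k, InjLT S S k) ∧ IsNoetherianRing S := by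
    obtain ⟨Q, hQ, ⟨e⟩⟩ := Groth.DualCore.exists_fibre_localization_equiv (A := A) q
    let e' : Localization.AtPrime Q ≃+* S :=
      e.trans (Ideal.quotEquivOfEq (congrArg (Ideal.map (algebraMap A R)) hqp))
    haveI : IsRegularRing ((q.comap (algebraMap A P)).Fiber P) :=
      IsRegularRing.of_ringEquiv
        (MvPolynomial.algebraTensorAlgEquiv (σ := Fin n) A (q.comap (algebraMap A P)).ResidueField).symm.toRingEquiv
    haveI : IsRegularLocalRing (Localization.AtPrime Q) := IsRegularRing.isRegularLocalRing_localization _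
    haveI : IsNoetherianRing (Localization.AtPrime Q) := inferInstance
    exact ⟨(exists_injLT_iff_of_ringEquiv (R := Localization.AtPrime Q) e').1 (exists_injLT_of_regular _ _ le_rfl),
      isNoetherianRing_of_ringEquiv (Localization.AtPrime Q) e'⟩
  have hpR : pR ≠ ⊤ := by
    have := Groth.DualCore.map_comap_ne_top (A := A) q
    rwa [hqp] at this
  haveI : Nontrivial S := Ideal.Quotient.nontrivial_iff.2 hpR
  haveI : IsLocalRing S := IsLocalRing.of_surjective' (Ideal.Quotient.mk pR) Ideal.Quotient.mk_surjective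
  have hmemR : ∀ x ∈ l, x ∈ maximalIdeal R := fun x hx =>
    IsLocalRing.le_maximalIdeal (Groth.KoszulLCI.map_atPrime_ne_top hIq)
      (hlI ▸ Groth.KoszulLCI.mem_ofList hx)
  haveI : IsLocalHom (Ideal.Quotient.mk pR) := IsLocalHom.of_surjective _ Ideal.Quotient.mk_surjective
  let lb : Fin l.length → S := fun i => Ideal.Quotient.mk pR (l.get i)
  have hmem : ∀ i, lb i ∈ maximalIdeal S := fun i => by
    rw [IsLocalRing.mem_maximalIdeal, mem_nonunits_iff]
    exact fun hu => (IsLocalRing.mem_maximalIdeal _).mp (hmemR _ (List.get_mem l i)) (isUnit_of_map_unit _ _ hu)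
  -- relations modulo `p` lift
  have hH1 : CInt.KoszulH1Zero lb S := by
    intro c hc
    choose c' hc' using fun i => Ideal.Quotient.mk_surjective (c i)
    let x := ∑ i, c' i * l.get i
    have hxJ : x ∈ (RingHom.ker f.toRingHom).map (algebraMap P R) := by
      rw [← hlI]
      exact Ideal.sum_mem _ fun i _ =>
        Ideal.mul_mem_left _ _ (Groth.KoszulLCI.mem_ofList (List.get_mem l i))
    have hxp : x ∈ pR := by
      rw [← Ideal.Quotient.eq_zero_iff_mem, map_sum, ← hc]
      exact Finset.sum_congr rfl fun i _ => by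
        rw [map_mul, hc', smul_eq_mul]
        exact mul_comm (c i) (lb i)
    have hx : x ∈ pR • Submodule.span R (Set.range l.get) := by
      have hpP : pR = (p.map (algebraMap A P)).map (algebraMap P R) := by
        rw [Ideal.map_map, ← IsScalarTower.algebraMap_eq]
      have hJ : Submodule.span R (Set.range l.get) = (RingHom.ker f.toRingHom).map (algebraMap P R) := by
        rw [← hlI, ofList_eq_span_range]
      rw [hJ, smul_eq_mul, hpP, ← Ideal.map_mul]
      rw [hpP] at hxp
      obtain ⟨⟨⟨a, ha⟩, s⟩, has⟩ := (IsLocalization.mem_map_algebraMap_iff q.primeCompl R).1 hxJ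
      obtain ⟨⟨⟨b, hb⟩, t⟩, hbt⟩ := (IsLocalization.mem_map_algebraMap_iff q.primeCompl R).1 hxp
      have : algebraMap P R (a * t) = algebraMap P R (b * s) := by
        rw [map_mul, map_mul, ← has, ← hbt]; ring
      obtain ⟨d, hd⟩ := (IsLocalization.eq_iff_exists q.primeCompl R).1 this
      rw [IsLocalization.mem_map_algebraMap_iff q.primeCompl R]
      refine ⟨⟨⟨(d : P) * (a * t), ker_inf_map_le f hf p ⟨?_, ?_⟩⟩, d * (s * t)⟩, ?_⟩
      · exact Ideal.mul_mem_left _ _ (Ideal.mul_mem_right _ _ ha)
      · rw [hd]; exact Ideal.mul_mem_left _ _ (Ideal.mul_mem_right _ _ hb)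
      · show x * algebraMap P R ((d : P) * ((s : P) * t)) = algebraMap P R ((d : P) * (a * t))
        rw [map_mul, map_mul, map_mul, map_mul, ← has]; ring
    obtain ⟨π, hπ, hπx⟩ := (Submodule.mem_ideal_smul_span_iff_exists_sum pR l.get x).1 hx
    have hrel : ∑ i, l.get i • (c' i - π i) = 0 := by
      rw [Finsupp.sum_fintype _ _ (by simp)] at hπx
      simp only [smul_eq_mul, mul_sub, Finset.sum_sub_distrib] at hπx ⊢
      rw [sub_eq_zero]
      calc ∑ i, l.get i * c' i = x := Finset.sum_congr rfl fun i _ => mul_comm _ _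
        _ = ∑ i, l.get i * π i := hπx.symm.trans (Finset.sum_congr rfl fun i _ => mul_comm _ _)
    have htriv := Groth.KoszulReg.koszulH1Zero_of_isKoszulRegularSeq hl (fun i => c' i - π i) hrel
    have himg : ∀ v ∈ Groth.KoszulReg.trivRelSub l.get,
        (fun i => Ideal.Quotient.mk pR (v i)) ∈ Groth.KoszulReg.trivRelSub lb := by
      intro v hv
      induction hv using Submodule.span_induction with
      | mem v hv =>
        obtain ⟨i, j, a, rfl⟩ := hv
        refine Submodule.subset_span ⟨i, j, Ideal.Quotient.mk pR a, ?_⟩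
        funext k
        simp only [Pi.sub_apply, Pi.smul_apply, smul_eq_mul, map_sub, map_mul, lb]
        rw [Pi.apply_single (fun _ => Ideal.Quotient.mk pR) (fun _ => map_zero _),
          Pi.apply_single (fun _ => Ideal.Quotient.mk pR) (fun _ => map_zero _)]
      | zero => convert zero_mem (Groth.KoszulReg.trivRelSub lb) using 1; funext k; exact map_zero _
      | add v w _ _ hv hw => convert add_mem hv hw using 1; funext k; exact map_add _ _ _
      | smul a v _ hv =>
        convert Submodule.smul_mem _ (Ideal.Quotient.mk pR a) hv using 1; funext k; exact map_mul _ _ _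
    convert himg _ htriv using 1
    funext i
    rw [map_sub, hc', Ideal.Quotient.eq_zero_iff_mem.2 (hπ i), sub_zero]
  haveI := hnoeth
  have hreg : IsWeaklyRegular S (List.ofFn lb) := isWeaklyRegular_of_koszulH1Zero_get lb hmem hH1
  let θ : R →+* Localization.AtPrime m := Localization.localRingHom q m f.toRingHom rfl
  have hθ : Function.Surjective θ := Groth.KoszulLCI.surjective_localRingHom f.toRingHom hf m
  have hker : RingHom.ker θ = Ideal.ofList l :=
    (Groth.KoszulLCI.ker_localRingHom_eq_map f.toRingHom hf m).trans hlI.symm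
  have hθA : θ.comp (algebraMap A R) = algebraMap A (Localization.AtPrime m) := RingHom.ext fun a => by
    rw [RingHom.comp_apply, IsScalarTower.algebraMap_apply A P R, Localization.localRingHom_to_map,
      IsScalarTower.algebraMap_apply A B (Localization.AtPrime m)]
    exact congrArg _ (f.commutes a)
  let ψ : R →+* Localization.AtPrime m ⧸ p.map (algebraMap A (Localization.AtPrime m)) :=
    (Ideal.Quotient.mk _).comp θ
  have hψ : Function.Surjective ψ := Ideal.Quotient.mk_surjective.comp hθ
  have hkerψ : RingHom.ker ψ = pR ⊔ Ideal.ofList l := by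
    rw [← hker, ← RingHom.comap_ker, Ideal.mk_ker, ← hθA, ← Ideal.map_map,
      Ideal.comap_map_of_surjective θ hθ]
    rfl
  have hlist : List.ofFn lb = l.map (Ideal.Quotient.mk pR) := by
    rw [show lb = Ideal.Quotient.mk pR ∘ l.get from rfl, ← List.map_ofFn, List.ofFn_get]
  refine (exists_injLT_iff_of_ringEquiv (R := R ⧸ pR ⊔ Ideal.ofList l) ((Ideal.quotEquivOfEq hkerψ.symm).trans
    (RingHom.quotientKerEquivOfSurjective hψ))).1 (exists_injLT_quotient_sup pR l ?_ (hlist ▸ hreg) hS)
  rw [← hlist]
  intro x hx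
  obtain ⟨i, rfl⟩ := List.mem_ofFn.1 hx
  exact hmem i

end Pres

/-- **Fibres of flat local complete intersections are Gorenstein.** -/
theorem isGorensteinRing_fibre_of_isLCI {A B : Type u} [CommRing A] [CommRing B] [Algebra A B]
    [Module.Flat A B] (hl : LCI.IsLCI A B) (p : Ideal A) [p.IsPrime] :
    LocCoh.IsGorensteinRing (p.Fiber B) := by
  obtain ⟨hft, n, f, hf, hI⟩ := hl
  haveI := hft
  haveI : IsNoetherianRing (p.Fiber B) := Algebra.FiniteType.isNoetherianRing p.ResidueField _
  refine { isGorensteinLocalRing_localization := fun Q _ => (isGorenstein_iff _).2 ?_ }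
  let m : Ideal B := Q.comap Algebra.TensorProduct.includeRight
  have hp : m.comap (algebraMap A B) = p := by
    rw [Ideal.over_def Q p, Ideal.under_def]
    show (Q.comap (Algebra.TensorProduct.includeRight : B →ₐ[A] p.Fiber B).toRingHom).comap (algebraMap A B) = _
    rw [Ideal.comap_comap]
    exact congrArg (fun g => Ideal.comap g Q) (RingHom.ext fun a => (Algebra.TensorProduct.includeRight : B →ₐ[A] p.Fiber B).commutes a)
  let e : Localization.AtPrime Q ≃+* Localization.AtPrime m ⧸
      (m.comap (algebraMap A B)).map (algebraMap A (Localization.AtPrime m)) :=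
    (Ideal.Fiber.algEquivAux₂ p Q).toRingEquiv.trans
      (Ideal.quotEquivOfEq (by rw [Ideal.map_map, ← IsScalarTower.algebraMap_eq, hp]))
  exact (exists_injLT_iff_of_ringEquiv e).2 (exists_injLT_fibre_of_presentation f hf hI m)

end GrothGoren
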