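import Groth.Agent.Gorenstein.ExtBaseChange
import Groth.Agent.GrMod.ExtComplex
import Groth.Agent.Ega4Algebra1.RegularLocal
import Groth.Prelude.Def_GrLC2
import Mathlib.RingTheory.Length

/-!
# Bass numbers from free `Ext` over a regular quotient

If `A ⧸ J` is regular local of dimension `d` and every `Ext^i(A ⧸ J, M)` is free over `A ⧸ J`
on `κ i`, then `μ^i(M) = 0` below `d` and `μ^i(M) = #κ (i - d)` from `d` on.
Helper library (no milestone statements here).
-/

universe u

open CategoryTheory IsLocalRing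

namespace GrothGoren

variable {A : Type u} [CommRing A] {M : Type u} [AddCommGroup M] [Module A M]

section Step

variable {J J' : Ideal A} {a : A}

theorem comp_mk₀_smul_id {X : ModuleCat.{u} A} {Y : ModuleCat.{u} A} (r : A) {i : ℕ}
    (x : Abelian.Ext.{u} X Y i) :
    (Abelian.Ext.mk₀ (r • 𝟙 X)).comp x (zero_add i) = r • x := by
  simp [Abelian.Ext.mk₀_smul]

/-- Multiplication by `a` on `A ⧸ J` presents `A ⧸ (J + (a))`. -/
theorem exact_smul_factor (h : J ≤ J') (hJ' : J' = J ⊔ Ideal.span {a}) :
    Function.Exact (LinearMap.lsmul A (A ⧸ J) a) (Submodule.factor h) := by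
  intro z
  obtain ⟨r, rfl⟩ := Submodule.Quotient.mk_surjective J z
  constructor
  · intro hr
    have hr' : r ∈ J' := (Submodule.Quotient.mk_eq_zero J').1 hr
    rw [hJ', Submodule.mem_sup] at hr'
    obtain ⟨u, hu, v, hv, rfl⟩ := hr'
    obtain ⟨c, rfl⟩ := Ideal.mem_span_singleton'.1 hv
    refine ⟨Submodule.Quotient.mk c, ?_⟩
    rw [LinearMap.lsmul_apply, ← Submodule.Quotient.mk_smul, Submodule.Quotient.eq, smul_eq_mul,
      mul_comm a c, sub_add_cancel_right]
    exact neg_mem hu
  · rintro ⟨w, hw⟩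
    obtain ⟨c, rfl⟩ := Submodule.Quotient.mk_surjective J w
    rw [← hw, LinearMap.lsmul_apply, ← Submodule.Quotient.mk_smul]
    refine (Submodule.Quotient.mk_eq_zero J').2 ?_
    rw [hJ']
    exact Ideal.mul_mem_right _ _ (Submodule.mem_sup_right (Ideal.mem_span_singleton_self a))

/-- The next family of bases. -/
def shiftIdx (κ : ℕ → Type u) : ℕ → Type u
  | 0 => PEmpty.{u + 1}
  | i + 1 => κ i

theorem nonempty_extQ_step (κ : ℕ → Type u) (h : J ≤ J') (hJ' : J' = J ⊔ Ideal.span {a})
    (ha : Function.Injective (LinearMap.lsmul A (A ⧸ J) a))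
    (he : ∀ i, Nonempty (GrothGr.ExtQ J M i ≃ₗ[A] (κ i →₀ A ⧸ J))) (i : ℕ) :
    Nonempty (GrothGr.ExtQ J' M i ≃ₗ[A] (shiftIdx κ i →₀ A ⧸ J')) := by
  classical
  have hinj : ∀ j (x : GrothGr.ExtQ J M j), a • x = 0 → x = 0 := by
    intro j x hx
    obtain ⟨e⟩ := he j
    apply e.injective
    have h0 := congrArg e hx
    rw [map_smul, map_zero] at h0
    rw [map_zero]
    refine Finsupp.ext fun k => ha ?_
    simpa using Finsupp.ext_iff.1 h0 k
  have hsurjπ := Submodule.factor_surjective h
  have hS := seqCx_shortExact (LinearMap.lsmul A (A ⧸ J) a) (Submodule.factor h)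
    (exact_smul_factor h hJ') ha hsurjπ
  have hf : (seqCx (LinearMap.lsmul A (A ⧸ J) a) (Submodule.factor h) (exact_smul_factor h hJ')).f =
      a • 𝟙 (ModuleCat.of A (A ⧸ J)) := by
    ext z
    rfl
  cases i with
  | zero =>
    have hsub : Subsingleton (GrothGr.ExtQ J' M 0) := by
      refine (GrothGr.extQZeroEquiv J' M).toEquiv.subsingleton_congr.2
        (subsingleton_of_forall_eq 0 fun m => ?_)
      have hm := (Submodule.mem_torsionBySet_iff _ _).1 m.2
      have hmJ : (m : M) ∈ LocCoh.torsionBy J M :=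
        (Submodule.mem_torsionBySet_iff _ _).2 fun r => hm ⟨r, h r.2⟩
      have h0 : a • (⟨m, hmJ⟩ : LocCoh.torsionBy J M) = 0 :=
        Subtype.ext (hm ⟨a, by rw [hJ']; exact Submodule.mem_sup_right (Ideal.mem_span_singleton_self a)⟩)
      have h1 : (GrothGr.extQZeroEquiv J M).symm ⟨m, hmJ⟩ = 0 :=
        hinj 0 _ (by rw [← map_smul, h0, map_zero])
      rw [map_eq_zero_iff _ (GrothGr.extQZeroEquiv J M).symm.injective] at h1
      exact Subtype.ext (congrArg Subtype.val h1 :)
    haveI : IsEmpty (shiftIdx κ 0) := inferInstanceAs (IsEmpty PEmpty)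
    exact ⟨LinearEquiv.ofSubsingleton _ _⟩
  | succ i =>
    obtain ⟨e⟩ := he i
    let δ : GrothGr.ExtQ J M i →ₗ[A] GrothGr.ExtQ J' M (i + 1) :=
      hS.extClass.precompOfLinear A (ModuleCat.of A M) (add_comm 1 i)
    have hδ : Function.Surjective δ := by
      intro y
      refine Abelian.Ext.contravariant_sequence_exact₃ hS _ y ?_ (add_comm 1 i)
      refine hinj (i + 1) _ ?_
      rw [← comp_mk₀_smul_id, ← hf, Abelian.Ext.mk₀_comp_mk₀_assoc, ShortComplex.zero,
        Abelian.Ext.mk₀_zero, Abelian.Ext.zero_comp]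
    have hker : ∀ x, δ x = 0 ↔ ∃ w, a • w = x := by
      intro x
      constructor
      · intro hx
        obtain ⟨w, hw⟩ := Abelian.Ext.contravariant_sequence_exact₁ hS _ x (add_comm 1 i) hx
        refine ⟨w, ?_⟩
        rw [← hw, hf, comp_mk₀_smul_id]
      · rintro ⟨w, rfl⟩
        show hS.extClass.comp (a • w) (add_comm 1 i) = 0
        rw [← comp_mk₀_smul_id, ← hf]
        exact hS.extClass_comp_assoc (Y := ModuleCat.of A M) w
    let π : (κ i →₀ A ⧸ J) →ₗ[A] (κ i →₀ A ⧸ J') :=
      Finsupp.mapRange.linearMap (Submodule.factor h)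
    have hπ : Function.Surjective π :=
      Finsupp.mapRange_surjective _ (map_zero _) hsurjπ
    let δ' : (κ i →₀ A ⧸ J) →ₗ[A] GrothGr.ExtQ J' M (i + 1) := δ ∘ₗ e.symm.toLinearMap
    have hδ' : Function.Surjective δ' := hδ.comp e.symm.surjective
    have hkk : LinearMap.ker δ' = LinearMap.ker π := by
      ext v
      rw [LinearMap.mem_ker, LinearMap.mem_ker]
      constructor
      · intro hv
        obtain ⟨w, hw⟩ := (hker _).1 hv
        have hv' : v = a • e w := by
          rw [← map_smul, hw]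
          exact (e.apply_symm_apply v).symm
        rw [hv']
        exact Finsupp.ext fun k => (exact_smul_factor h hJ').apply_apply_eq_zero (e w k)
      · intro hv
        have hk : ∀ k, ∃ c, a • c = v k := fun k =>
          (exact_smul_factor h hJ' (v k)).1 (Finsupp.ext_iff.1 hv k)
        choose c hc using hk
        refine (hker _).2 ⟨e.symm (Finsupp.onFinset v.support c fun k hk => ?_), ?_⟩
        · rw [Finsupp.mem_support_iff]
          intro h0
          exact hk (ha (by simp [hc k, h0]))
        · rw [← map_smul]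
          exact congrArg e.symm (Finsupp.ext fun k => hc k)
    exact ⟨(δ'.quotKerEquivOfSurjective hδ').symm ≪≫ₗ
      (Submodule.quotEquivOfEq _ _ hkk ≪≫ₗ π.quotKerEquivOfSurjective hπ)⟩

end Step

theorem length_ext_residueField_of_free [IsLocalRing A] [IsNoetherianRing A] :
    ∀ (d : ℕ) (J : Ideal A) (κ : ℕ → Type u) [IsRegularLocalRing (A ⧸ J)],
      ringKrullDim (A ⧸ J) = d →
      (∀ i, Nonempty (GrothGr.ExtQ J M i ≃ₗ[A] (κ i →₀ A ⧸ J))) →
      (∀ i, i < d → GrLC.bassNumLocal A M i = 0) ∧
        ∀ i, d ≤ i → GrLC.bassNumLocal A M i = ENat.card (κ (i - d)) := by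
  intro d
  induction d with
  | zero =>
    intro J κ _ hd he
    have hbot : maximalIdeal (A ⧸ J) = ⊥ := by
      rw [← Submodule.spanFinrank_eq_zero_iff_eq_bot (IsNoetherian.noetherian _)]
      have := IsRegularLocalRing.spanFinrank_maximalIdeal (R := A ⧸ J)
      rw [hd] at this
      exact_mod_cast this
    have hJ : J = maximalIdeal A := by
      have hne : J ≠ ⊤ := Ideal.Quotient.nontrivial_iff.1 inferInstance
      refine le_antisymm (IsLocalRing.le_maximalIdeal hne) fun x hx => ?_
      have h1 : Ideal.Quotient.mk J x ∈ maximalIdeal (A ⧸ J) := by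
        intro hu
        obtain ⟨y, hy⟩ := Ideal.Quotient.mk_surjective (hu.unit⁻¹ : (A ⧸ J)ˣ).val
        have hxy : Ideal.Quotient.mk J (x * y - 1) = 0 := by
          rw [map_sub, map_mul, hy, map_one, IsUnit.mul_val_inv, sub_self]
        have hmem := IsLocalRing.le_maximalIdeal hne (Ideal.Quotient.eq_zero_iff_mem.1 hxy)
        exact (maximalIdeal.isMaximal A).ne_top ((Ideal.eq_top_iff_one _).2
          (by simpa using sub_mem (Ideal.mul_mem_right y _ hx) hmem))
      rw [hbot, Submodule.mem_bot, Ideal.Quotient.eq_zero_iff_mem] at h1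
      exact h1
    subst hJ
    refine ⟨fun i hi => absurd hi (Nat.not_lt_zero i), fun i _ => ?_⟩
    obtain ⟨e⟩ := he i
    show Module.length A (GrothGr.ExtQ (maximalIdeal A) M i) = _
    haveI : IsSimpleModule A (A ⧸ maximalIdeal A) :=
      isSimpleModule_iff_isCoatom.2 (IsLocalRing.maximalIdeal.isMaximal A).out
    rw [e.length_eq, Module.length_finsupp, Module.length_eq_one, mul_one, Nat.sub_zero]
  | succ d ih =>
    intro J κ _ hd he
    haveI := Groth.Ega4Algebra1.isDomain_of_isRegularLocalRing (A ⧸ J)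
    have hmax : maximalIdeal (A ⧸ J) ≠ ⊥ := by
      intro hbot
      have := IsRegularLocalRing.spanFinrank_maximalIdeal (R := A ⧸ J)
      rw [hd, hbot, Submodule.spanFinrank_bot] at this
      exact absurd (by exact_mod_cast this : (0 : ℕ) = d + 1) (Nat.succ_ne_zero d).symm
    obtain ⟨x, hx, hx2⟩ := Set.not_subset.1 (Groth.Ega4Algebra1.maximalIdeal_not_le_sq hmax)
    obtain ⟨a, rfl⟩ := Ideal.Quotient.mk_surjective x
    have ha : Function.Injective (LinearMap.lsmul A (A ⧸ J) a) := by
      refine (injective_iff_map_eq_zero _).2 fun z hz => ?_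
      rw [LinearMap.lsmul_apply, Algebra.smul_def] at hz
      exact (mul_eq_zero.1 hz).resolve_left fun h0 => hx2 (by
        rw [show Ideal.Quotient.mk J a = 0 from h0]; exact zero_mem _)
    obtain ⟨hreg, hdim⟩ := Groth.Ega4Algebra1.isRegularLocalRing_quotient_span_singleton hx hx2
    let J' := J ⊔ Ideal.span {a}
    let e₁ : ((A ⧸ J) ⧸ Ideal.span {Ideal.Quotient.mk J a}) ≃+* A ⧸ J' :=
      (Ideal.quotEquivOfEq (by rw [Ideal.map_span, Set.image_singleton])).trans
        (DoubleQuot.quotQuotEquivQuotSup J (Ideal.span {a}))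
    haveI : IsRegularLocalRing (A ⧸ J') := @IsRegularLocalRing.of_ringEquiv _ _ hreg _ _ e₁
    have hd' : ringKrullDim (A ⧸ J') = d := by
      rw [← ringKrullDim_eq_of_ringEquiv e₁]
      rw [hd] at hdim
      push_cast at hdim ⊢
      revert hdim
      generalize ringKrullDim ((A ⧸ J) ⧸ Ideal.span {Ideal.Quotient.mk J a}) = y
      induction y using WithBot.recBotCoe with
      | bot =>
        intro h
        rw [WithBot.bot_add] at h
        exact absurd h.symm (by exact_mod_cast WithBot.coe_ne_bot)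
      | coe y =>
        intro h
        have h' : y + 1 = (d : ℕ∞) + 1 := by exact_mod_cast h
        exact_mod_cast WithTop.add_right_cancel ENat.one_ne_top h'
    obtain ⟨h1, h2⟩ := ih J' (shiftIdx κ) hd' (nonempty_extQ_step κ le_sup_left rfl ha he)
    refine ⟨fun i hi => ?_, fun i hi => ?_⟩
    · rcases Nat.lt_or_ge i d with h | h
      · exact h1 i h
      · obtain rfl : i = d := by omega
        rw [h2 i le_rfl, Nat.sub_self]
        show ENat.card PEmpty = 0
        simp
    · rw [h2 i (by omega), show i - d = (i - (d + 1)) + 1 by omega]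
      rfl

end GrothGoren
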