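import Groth.Agent.Gorenstein.Basic
import Mathlib.Algebra.Module.FinitePresentation
import Mathlib.RingTheory.Flat.FaithfullyFlat.Basic

/-!
# Vanishing of `Ext` along flat ring maps

For a Noetherian ring `A`, a flat `A`-algebra `B` and a finite module `L`, vanishing of
`Ext^(i+1)_A(L, M)` gives vanishing of `Ext^(i+1)_B(B ⊗ L, B ⊗ M)`, and conversely if `B` is
faithfully flat. Helper library (no milestone statements here).
-/

universe u

open CategoryTheory TensorProduct

namespace GrothGoren

variable {R : Type u} [CommRing R]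
variable {X Y Z N : Type u} [AddCommGroup X] [Module R X] [AddCommGroup Y] [Module R Y]
  [AddCommGroup Z] [Module R Z] [AddCommGroup N] [Module R N] {f : X →ₗ[R] Y} {g : Y →ₗ[R] Z}

theorem extZ_contra_right (hex : Function.Exact f g) (hf : Function.Injective f)
    (hg : Function.Surjective g) {i : ℕ} (h₁ : ExtZ R X N i) (h₂ : ExtZ R Y N (i + 1)) :
    ExtZ R Z N (i + 1) := by
  refine subsingleton_of_forall_eq 0 fun x => ?_
  obtain ⟨y, rfl⟩ := Abelian.Ext.contravariant_sequence_exact₃ (seqCx_shortExact f g hex hf hg)
    (ModuleCat.of R N) x (Subsingleton.elim (h := h₂) _ _) (n₀ := i) (by omega)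
  rw [Subsingleton.elim (h := h₁) y 0, Abelian.Ext.comp_zero]

/-- `Ext^1(Z, N) = 0` for `Z = Y/X`, `Y` projective, iff maps from `X` extend to `Y`. -/
theorem extZ_one_iff_contra (hex : Function.Exact f g) (hf : Function.Injective f)
    (hg : Function.Surjective g) [Module.Projective R Y] :
    ExtZ R Z N 1 ↔ Function.Surjective (LinearMap.lcomp R N f) := by
  have hS := seqCx_shortExact f g hex hf hg
  constructor
  · intro h u
    obtain ⟨y, hy⟩ := Abelian.Ext.contravariant_sequence_exact₁ hS (ModuleCat.of R N)
      (Abelian.Ext.mk₀ (ModuleCat.ofHom u)) (n₁ := 1) rfl (Subsingleton.elim (h := h) _ _)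
    obtain ⟨v, rfl⟩ := (Abelian.Ext.mk₀_bijective _ _).2 y
    rw [Abelian.Ext.mk₀_comp_mk₀] at hy
    exact ⟨v.hom, congrArg ModuleCat.Hom.hom ((Abelian.Ext.mk₀_bijective _ _).1 hy)⟩
  · intro h
    refine subsingleton_of_forall_eq 0 fun x => ?_
    obtain ⟨y, rfl⟩ := Abelian.Ext.contravariant_sequence_exact₃ hS (ModuleCat.of R N) x
      (Subsingleton.elim (h := extZ_of_projective (i := 0)) _ _) (n₀ := 0) rfl
    obtain ⟨v, rfl⟩ := (Abelian.Ext.mk₀_bijective _ _).2 y
    obtain ⟨w, hw⟩ := h v.hom
    have : v = (seqCx f g hex).f ≫ ModuleCat.ofHom w := by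
      ext z
      exact (LinearMap.congr_fun hw z).symm
    rw [this, ← Abelian.Ext.mk₀_comp_mk₀, hS.extClass_comp_assoc]

variable {A B : Type u} [CommRing A] [CommRing B] [Algebra A B] [IsNoetherianRing A]
  [Module.Flat A B]

theorem lcomp_baseChange_surjective_of {K F M : Type u} [AddCommGroup K] [Module A K]
    [Module.Finite A K] [AddCommGroup F] [Module A F] [Module.Finite A F] [AddCommGroup M]
    [Module A M] (f : K →ₗ[A] F) :
    (Function.Surjective (LinearMap.lcomp A M f) →
      Function.Surjective (LinearMap.lcomp B (B ⊗[A] M) (f.baseChange B))) ∧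
    (Module.FaithfullyFlat A B →
      Function.Surjective (LinearMap.lcomp B (B ⊗[A] M) (f.baseChange B)) →
      Function.Surjective (LinearMap.lcomp A M f)) := by
  haveI := Module.finitePresentation_of_finite A K
  haveI := Module.finitePresentation_of_finite A F
  let eK := (Module.FinitePresentation.isBaseChange_map A K M B).equiv
  let eF := (Module.FinitePresentation.isBaseChange_map A F M B).equiv
  have key : ∀ z, LinearMap.lcomp B (B ⊗[A] M) (f.baseChange B) (eF z) =
      eK ((LinearMap.lcomp A M f).lTensor B z) := by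
    intro z
    induction z using TensorProduct.induction_on with
    | zero => simp
    | tmul b φ =>
      apply TensorProduct.AlgebraTensorModule.curry_injective
      refine LinearMap.ext fun s => LinearMap.ext fun k => ?_
      simp [eK, eF, IsBaseChange.equiv_tmul]
    | add z w hz hw => simp only [map_add, hz, hw]
  constructor
  · intro h φ
    obtain ⟨z, hz⟩ := LinearMap.lTensor_surjective B h (eK.symm φ)
    exact ⟨eF z, by rw [key, hz, eK.apply_symm_apply]⟩
  · intro hff h
    refine (Module.FaithfullyFlat.lTensor_surjective_iff_surjective A B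
      (LinearMap.lcomp A M f)).1 fun z => ?_
    obtain ⟨φ, hφ⟩ := h (eK z)
    obtain ⟨w, rfl⟩ := eF.surjective φ
    exact ⟨w, eK.injective (by rw [← hφ, key])⟩

variable (M : Type u) [AddCommGroup M] [Module A M]

theorem extZ_baseChange_aux : ∀ (i : ℕ) (L : Type u) [AddCommGroup L] [Module A L]
    [Module.Finite A L],
    (ExtZ A L M (i + 1) → ExtZ B (B ⊗[A] L) (B ⊗[A] M) (i + 1)) ∧
    (Module.FaithfullyFlat A B → ExtZ B (B ⊗[A] L) (B ⊗[A] M) (i + 1) → ExtZ A L M (i + 1)) := by
  intro i
  induction i with
  | zero =>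
    intro L _ _ _
    obtain ⟨n, g, hg⟩ := Module.Finite.exists_fin' A L
    let f := (LinearMap.ker g).subtype
    have hex : Function.Exact f g := fun x => ⟨fun h => ⟨⟨x, h⟩, rfl⟩, by rintro ⟨y, rfl⟩; exact y.2⟩
    have hexB : Function.Exact (f.baseChange B) (g.baseChange B) := lTensor_exact B hex hg
    have hfB : Function.Injective (f.baseChange B) :=
      Module.Flat.lTensor_preserves_injective_linearMap f Subtype.val_injective
    have hgB : Function.Surjective (g.baseChange B) := LinearMap.lTensor_surjective B hg
    rw [extZ_one_iff_contra hex Subtype.val_injective hg, extZ_one_iff_contra hexB hfB hgB]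
    exact lcomp_baseChange_surjective_of f
  | succ i ih =>
    intro L _ _ _
    obtain ⟨n, g, hg⟩ := Module.Finite.exists_fin' A L
    let f := (LinearMap.ker g).subtype
    have hex : Function.Exact f g := fun x => ⟨fun h => ⟨⟨x, h⟩, rfl⟩, by rintro ⟨y, rfl⟩; exact y.2⟩
    have hexB : Function.Exact (f.baseChange B) (g.baseChange B) := lTensor_exact B hex hg
    have hfB : Function.Injective (f.baseChange B) :=
      Module.Flat.lTensor_preserves_injective_linearMap f Subtype.val_injective
    have hgB : Function.Surjective (g.baseChange B) := LinearMap.lTensor_surjective B hg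
    refine ⟨fun h => ?_, fun hff h => ?_⟩
    · exact extZ_contra_right hexB hfB hgB
        ((ih _).1 (extZ_contra_left hex Subtype.val_injective hg extZ_of_projective h))
        extZ_of_projective
    · exact extZ_contra_right hex Subtype.val_injective hg
        ((ih _).2 hff (extZ_contra_left hexB hfB hgB extZ_of_projective h)) extZ_of_projective

variable (L : Type u) [AddCommGroup L] [Module A L] [Module.Finite A L]

theorem extZ_baseChange {i : ℕ} (h : ExtZ A L M (i + 1)) :
    ExtZ B (B ⊗[A] L) (B ⊗[A] M) (i + 1) :=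
  (extZ_baseChange_aux M i L).1 h

theorem extZ_of_extZ_baseChange [Module.FaithfullyFlat A B] {i : ℕ}
    (h : ExtZ B (B ⊗[A] L) (B ⊗[A] M) (i + 1)) : ExtZ A L M (i + 1) :=
  (extZ_baseChange_aux M i L).2 inferInstance h

end GrothGoren
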