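import Groth.Agent.Gorenstein.InjDim
import Groth.Agent.Gorenstein.ChangeRingsExt
import Groth.Agent.Matlis.Hull
import Groth.Agent.GrMod.BassComplex
import Groth.Prelude.Def_GrLC2

/-!
# Bass numbers detect injective dimension

For an arbitrary module over a Noetherian ring, the vanishing of all `μ^(n+1)` forces injective
dimension at most `n`. Helper library (no milestone statements here).
-/

universe u

open CategoryTheory IsLocalRing

namespace GrothGoren

variable {R : Type u} [CommRing R] [IsNoetherianRing R]

theorem bassNum_eq_zero_iff (p : Ideal R) [p.IsPrime] (M : Type u) [AddCommGroup M] [Module R M]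
    (i : ℕ) : GrLC.bassNum p M i = 0 ↔
      ExtZ (Localization.AtPrime p) (ResidueField (Localization.AtPrime p))
        (LocalizedModule p.primeCompl M) i :=
  Module.length_eq_zero_iff (R := Localization.AtPrime p)
    (M := Abelian.Ext.{u} (ModuleCat.of _ (ResidueField (Localization.AtPrime p)))
      (ModuleCat.of _ (LocalizedModule p.primeCompl M)) i)

theorem bassNum_one_ne_zero_of_ass {Q E : Type u} [AddCommGroup Q] [Module R Q] [AddCommGroup E]
    [Module R E] {e : Q →ₗ[R] E} (he : InjHull.IsInjectiveHull e) (p : Ideal R)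
    (hp : p ∈ associatedPrimes R (E ⧸ LinearMap.range e)) :
    ∃ (_ : p.IsPrime), GrLC.bassNum p Q 1 ≠ 0 := by
  obtain ⟨hpp, c, hc⟩ := isAssociatedPrime_iff.1 hp
  obtain ⟨x, rfl⟩ := Submodule.mkQ_surjective _ c
  haveI := hpp
  refine ⟨hpp, fun h => ?_⟩
  have hmem : ∀ r, r • x ∈ LinearMap.range e ↔ r ∈ p := fun r => by
    rw [hc, Submodule.mem_colon_singleton, Submodule.mem_bot, ← map_smul, Submodule.mkQ_apply,
      Submodule.Quotient.mk_eq_zero]
  set A := Localization.AtPrime p
  haveI := he.isInjective
  haveI : Module.Injective A (LocalizedModule p.primeCompl E) :=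
    Module.injective_of_isLocalizedModule p.primeCompl (LocalizedModule.mkLinearMap p.primeCompl E)
  let g := LocalizedModule.map p.primeCompl (LinearMap.range e).mkQ
  have hlift := (extZ_one_iff (N := ResidueField A) (f := LocalizedModule.map p.primeCompl e)
    (g := g) (LocalizedModule.map_exact p.primeCompl e (LinearMap.range e).mkQ
      (LinearMap.exact_map_mkQ_range e))
    (LocalizedModule.map_injective p.primeCompl e he.injective)
    (LocalizedModule.map_surjective p.primeCompl (LinearMap.range e).mkQ
      (Submodule.mkQ_surjective _))).1 ((bassNum_eq_zero_iff p Q 1).1 h)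
  let ψ : ResidueField A →ₗ[A] LocalizedModule p.primeCompl (E ⧸ LinearMap.range e) :=
    Submodule.liftQ (maximalIdeal A) (LinearMap.toSpanSingleton A _
      (LocalizedModule.mk ((LinearMap.range e).mkQ x) 1)) (by
      rw [← IsLocalization.AtPrime.map_eq_maximalIdeal p A, Ideal.map_le_iff_le_comap]
      intro r hr
      show algebraMap R A r • LocalizedModule.mk ((LinearMap.range e).mkQ x) (1 : p.primeCompl) = 0
      rw [algebraMap_smul, LocalizedModule.smul'_mk, ← map_smul, Submodule.mkQ_apply,
        (Submodule.Quotient.mk_eq_zero _).2 ((hmem r).2 hr), LocalizedModule.zero_mk])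
  obtain ⟨w, hw⟩ := hlift ψ
  have hy : w (Submodule.Quotient.mk 1) ∈
      LocCoh.torsionBy (p.map (algebraMap R A)) (LocalizedModule p.primeCompl E) := by
    refine (Submodule.mem_torsionBySet_iff _ _).2 fun r => ?_
    show (r : A) • w (Submodule.Quotient.mk 1) = 0
    have hr : (r : A) ∈ maximalIdeal A := IsLocalization.AtPrime.map_eq_maximalIdeal p A ▸ r.2
    rw [← map_smul]
    show w (Submodule.Quotient.mk ((r : A) • (1 : A))) = 0
    rw [smul_eq_mul, mul_one]
    exact (congrArg w ((Submodule.Quotient.mk_eq_zero _).2 hr)).trans (map_zero w)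
  obtain ⟨z, t, hzt, hz⟩ :=
    GrothGr.exists_clear p.primeCompl p (IsNoetherian.noetherian p) _ hy
  have h1 : LocalizedModule.mk ((LinearMap.range e).mkQ z) t =
      LocalizedModule.mk ((LinearMap.range e).mkQ x) (1 : p.primeCompl) := by
    have := LinearMap.congr_fun hw (Submodule.Quotient.mk 1)
    rw [LinearMap.comp_apply, hzt, LocalizedModule.map_mk] at this
    rw [this]
    exact one_smul A _
  rw [LocalizedModule.mk_eq] at h1
  obtain ⟨v, hv⟩ := h1
  have hz' : ((v * t : p.primeCompl) : R) • x - (v : R) • z ∈ LinearMap.range e := by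
    rw [one_smul] at hv
    rw [← Submodule.Quotient.eq, Submodule.Quotient.mk_smul, Submodule.Quotient.mk_smul,
      Submonoid.coe_mul, mul_smul]
    exact hv.symm
  rcases eq_or_ne ((v : R) • z) 0 with h0 | h0
  · rw [h0, sub_zero, hmem] at hz'
    exact (v * t).2 hz'
  · obtain ⟨r, hr, hr0⟩ := GrothMatlis.IsEssentialInj.exists_smul he.toIsEssentialInj h0
    have hrp : r ∉ p := fun h' => hr0 (by
      rw [smul_comm, show r • z = 0 from (Submodule.mem_torsionBySet_iff _ _).1 hz ⟨r, h'⟩,
        smul_zero])
    have := add_mem (Submodule.smul_mem _ r hz') hr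
    rw [smul_sub, sub_add_cancel, ← mul_smul, hmem] at this
    exact (hpp.mem_or_mem this).elim hrp (v * t).2

theorem injective_of_bassNum_one (Q : Type u) [AddCommGroup Q] [Module R Q]
    (h : ∀ (p : Ideal R) [p.IsPrime], GrLC.bassNum p Q 1 = 0) : Module.Injective R Q := by
  obtain ⟨E, _, _, e, he⟩ := GrothMatlis.exists_hull R Q
  suffices hs : LinearMap.range e = ⊤ by
    haveI := he.isInjective
    exact injLT_one_iff.1 (injLT_of_equiv
      ((LinearEquiv.ofInjective e he.injective).trans
        ((LinearEquiv.ofEq _ _ hs).trans Submodule.topEquiv)).symm (injLT_one_iff.2 inferInstance))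
  by_contra hne
  haveI : Nontrivial (E ⧸ LinearMap.range e) := Submodule.Quotient.nontrivial_iff.2 hne
  obtain ⟨p, hp⟩ := associatedPrimes.nonempty R (E ⧸ LinearMap.range e)
  obtain ⟨hpp, hne⟩ := bassNum_one_ne_zero_of_ass he p hp
  haveI := hpp
  exact hne (h p)

theorem injLT_of_bassNum : ∀ (n : ℕ) (M : Type u) [AddCommGroup M] [Module R M],
    (∀ (p : Ideal R) [p.IsPrime], GrLC.bassNum p M (n + 1) = 0) → InjLT R M (n + 1) := by
  intro n
  induction n with
  | zero => exact fun M _ _ h => injLT_one_iff.2 (injective_of_bassNum_one M h)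
  | succ n ih =>
    intro M _ _ h
    obtain ⟨J, _, _, j, hj, hJ⟩ := exists_injective_sequence R M
    rw [injLT_succ_iff (LinearMap.exact_map_mkQ_range j) hj (Submodule.mkQ_surjective _) n]
    refine ih _ fun p _ => ?_
    haveI : Module.Injective (Localization.AtPrime p) (LocalizedModule p.primeCompl J) :=
      Module.injective_of_isLocalizedModule p.primeCompl
        (LocalizedModule.mkLinearMap p.primeCompl J)
    rw [bassNum_eq_zero_iff]
    exact extZ_right (R := Localization.AtPrime p) (f := LocalizedModule.map p.primeCompl j)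
      (g := LocalizedModule.map p.primeCompl (LinearMap.range j).mkQ) (LocalizedModule.map_exact p.primeCompl j (LinearMap.range j).mkQ
      (LinearMap.exact_map_mkQ_range j)) (LocalizedModule.map_injective p.primeCompl j hj)
      (LocalizedModule.map_surjective p.primeCompl (LinearMap.range j).mkQ
        (Submodule.mkQ_surjective _)) (extZ_of_injective (R := Localization.AtPrime p))
      ((bassNum_eq_zero_iff p M _).1 (h p))

theorem bassNum_eq_zero_of_injLT {M : Type u} [AddCommGroup M] [Module R M] {n : ℕ}
    (h : InjLT R M (n + 1)) (p : Ideal R) [p.IsPrime] {i : ℕ} (hi : n < i) :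
    GrLC.bassNum p M i = 0 :=
  (bassNum_eq_zero_iff p M i).2 ((injLT_localized p.primeCompl n M h).extZ _ hi)

end GrothGoren
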