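import Groth.Agent.Gorenstein.Basic

/-!
# The top `Ext` against a local ring of finite self-injective dimension

`Ext^d(M, R) = 0` iff some element of the maximal ideal is regular on `M`. Helper library.
-/

universe u

open CategoryTheory IsLocalRing

namespace GrothGoren

variable {R : Type u} [CommRing R] [IsLocalRing R] [IsNoetherianRing R]
variable {M : Type u} [AddCommGroup M] [Module R M] [Module.Finite R M]

theorem exists_residueField_embedding_module [Nontrivial M]
    (h : ∀ x ∈ maximalIdeal R, ¬ IsSMulRegular M x) :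
    ∃ ι : ResidueField R →ₗ[R] M, Function.Injective ι := by
  have hfin := associatedPrimes.finite R M
  have hsub : (maximalIdeal R : Set R) ⊆ ⋃ p ∈ hfin.toFinset, ((p : Ideal R) : Set R) := by
    intro x hx
    have hx' : x ∈ ⋃ p ∈ associatedPrimes R M, (p : Set R) := by
      rw [biUnion_associatedPrimes_eq_compl_regular]
      exact h x hx
    simpa using hx'
  obtain ⟨p, hp, hle⟩ := (Ideal.subset_union_prime (maximalIdeal R) (maximalIdeal R)
    fun q hq _ _ => (hfin.mem_toFinset.1 hq).isPrime).1 hsub
  have hp' := hfin.mem_toFinset.1 hp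
  have : p = maximalIdeal R :=
    le_antisymm (IsLocalRing.le_maximalIdeal hp'.isPrime.ne_top) hle
  obtain ⟨_, ι, hι⟩ := (isAssociatedPrime_iff_exists_injective_linearMap _ M).1 (this ▸ hp')
  exact ⟨ι, hι⟩

theorem not_extZ_residueField {d : ℕ} (hd : InjLT R R (d + 1)) (hd0 : ¬ InjLT R R d) :
    ¬ ExtZ R (ResidueField R) R d := by
  intro h
  cases d with
  | zero =>
    obtain ⟨ι, hι⟩ := exists_residueField_embedding (R := R) fun x hx hreg =>
      (IsLocalRing.mem_maximalIdeal x).1 hx
        (isUnit_of_isSMulRegular_of_injective (injLT_one_iff.1 hd) hreg)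
    have := extZ_zero_iff.1 h
    exact one_ne_zero (hι (a₁ := (1 : ResidueField R)) (a₂ := 0)
      (by rw [Subsingleton.elim ι 0]; rfl))
  | succ e =>
    refine hd0 (injLT_of_residueField fun i hi => ?_)
    rcases Nat.lt_or_ge i (e + 2) with hlt | hge
    · obtain rfl : i = e + 1 := by omega
      exact h
    · exact hd.extZ _ hge

theorem exists_regular_iff_extZ_top [Nontrivial M] {d : ℕ} (hd : InjLT R R (d + 1))
    (hd0 : ¬ InjLT R R d) :
    (∃ x ∈ maximalIdeal R, IsSMulRegular M x) ↔ ExtZ R M R d := by
  constructor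
  · rintro ⟨x, hxm, hx⟩
    let μ : M →ₗ[R] M := LinearMap.lsmul R M x
    have hμ : Function.Injective μ := hx
    haveI : Module.Finite R (Abelian.Ext (ModuleCat.of R M) (ModuleCat.of R R) d) :=
      ModuleCat.finite_ext R (ModuleCat.of R M) (ModuleCat.of R R) d
    have hS := seqCx_shortExact μ (LinearMap.range μ).mkQ (LinearMap.exact_map_mkQ_range μ) hμ
      (Submodule.mkQ_surjective _)
    have hμeq : (ModuleCat.ofHom μ : ModuleCat.of R M ⟶ ModuleCat.of R M) =
        x • 𝟙 (ModuleCat.of R M) := by
      ext q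
      rfl
    have hsurj : ∀ α : Abelian.Ext (ModuleCat.of R M) (ModuleCat.of R R) d,
        ∃ β : Abelian.Ext (ModuleCat.of R M) (ModuleCat.of R R) d, x • β = α := by
      intro α
      obtain ⟨β, hβ⟩ := Abelian.Ext.contravariant_sequence_exact₁ hS (ModuleCat.of R R) α
        (n₁ := 1 + d) rfl (Subsingleton.elim (h := hd.extZ _ (by omega)) _ _)
      refine ⟨β, ?_⟩
      rw [← hβ]
      show _ = (Abelian.Ext.mk₀ (ModuleCat.ofHom μ)).comp β (zero_add d)
      rw [hμeq]
      simp [Abelian.Ext.mk₀_smul]
    have htop : (⊤ : Submodule R (Abelian.Ext (ModuleCat.of R M) (ModuleCat.of R R) d)) ≤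
        Ideal.span {x} • ⊤ := fun α _ => by
      obtain ⟨β, rfl⟩ := hsurj α
      exact Submodule.smul_mem_smul (Ideal.mem_span_singleton_self x) Submodule.mem_top
    have h0 := Submodule.eq_bot_of_le_smul_of_le_jacobson_bot (Ideal.span {x}) ⊤
      Module.Finite.fg_top htop (by
        rw [jacobson_eq_maximalIdeal ⊥ bot_ne_top, Ideal.span_singleton_le_iff_mem]
        exact hxm)
    exact subsingleton_of_forall_eq 0 fun α => (Submodule.eq_bot_iff _).1 h0 α Submodule.mem_top
  · intro h
    by_contra hcon
    push Not at hcon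
    obtain ⟨ι, hι⟩ := exists_residueField_embedding_module hcon
    exact not_extZ_residueField hd hd0 (extZ_contra_left (LinearMap.exact_map_mkQ_range ι) hι
      (Submodule.mkQ_surjective _) h (hd.extZ _ le_rfl))

end GrothGoren
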