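import Groth.Agent.Gorenstein.FlatLocal
import Mathlib.RingTheory.Artinian.Ring

/-!
# Injective hulls along flat maps with Artinian Gorenstein closed fibre

Helper library (no milestone statements here).
-/

universe u

open IsLocalRing TensorProduct InjHull

namespace GrothGoren

variable (A B : Type u) [CommRing A] [CommRing B] [IsLocalRing A] [IsLocalRing B]
  [IsNoetherianRing A] [IsNoetherianRing B] [Algebra A B] [IsLocalHom (algebraMap A B)]
  [Module.Flat A B]

theorem exists_hull_baseChange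
    (hF : ∃ n, InjLT (B ⧸ (maximalIdeal A).map (algebraMap A B))
      (B ⧸ (maximalIdeal A).map (algebraMap A B)) n)
    (hArt : IsArtinianRing (B ⧸ (maximalIdeal A).map (algebraMap A B)))
    {E : Type u} [AddCommGroup E] [Module A E] {f : ResidueField A →ₗ[A] E}
    (hf : IsInjectiveHull f) :
    ∃ g : ResidueField B →ₗ[B] B ⊗[A] E, IsInjectiveHull g := by
  haveI := nontrivial_fibre A B
  obtain ⟨d, hd, hd1, -⟩ := exists_dim _ hF
  obtain rfl : d = 0 := by
    have h0 := ringKrullDimZero_iff_ringKrullDim_eq_zero.1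
      (inferInstance : Ring.KrullDimLE 0 (B ⧸ (maximalIdeal A).map (algebraMap A B)))
    exact_mod_cast hd.symm.trans h0
  obtain ⟨ι, hι⟩ := exists_socle (injLT_one_iff.1 hd1)
  set b := (maximalIdeal A).map (algebraMap A B) with hb
  have hbm : b ≤ maximalIdeal B := ((IsLocalRing.local_hom_TFAE (algebraMap A B)).out 0 2).1 ‹_›
  -- a power of the maximal ideal lies in `b`
  obtain ⟨N, hN⟩ : ∃ N, maximalIdeal B ^ N ≤ b := by
    obtain ⟨N, hN⟩ := IsArtinianRing.isNilpotent_jacobson_bot (R := B ⧸ b)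
    refine ⟨N, fun r hr => Ideal.Quotient.eq_zero_iff_mem.1 ?_⟩
    have hle : (maximalIdeal B).map (Ideal.Quotient.mk b) ≤ Ideal.jacobson ⊥ := by
      rw [jacobson_eq_maximalIdeal ⊥ bot_ne_top, Ideal.map_le_iff_le_comap]
      intro x hx hu
      haveI : IsLocalHom (Ideal.Quotient.mk b) :=
        IsLocalHom.of_surjective _ Ideal.Quotient.mk_surjective
      exact hx (isUnit_of_map_unit _ x hu)
    have hr' : Ideal.Quotient.mk b r ∈ Ideal.jacobson (⊥ : Ideal (B ⧸ b)) ^ N :=
      Ideal.pow_right_mono hle N (Ideal.map_pow (Ideal.Quotient.mk b) (maximalIdeal B) N ▸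
        Ideal.mem_map_of_mem _ hr)
    rwa [hN, Ideal.zero_eq_bot, Submodule.mem_bot] at hr'
  have hpow : LocCoh.IsPowerTorsion (maximalIdeal B) (B ⊗[A] E) := by
    intro x
    obtain ⟨n, hn⟩ := GrothMatlis.baseChange_isPowerTorsion (B := B) hf x
    exact ⟨N * n, fun r hr => hn r (Ideal.pow_right_mono hN n (by rwa [pow_mul] at hr))⟩
  -- the socle of `B ⊗ E`
  let e : LocCoh.torsionBy b (B ⊗[A] E) ≃ₗ[B] B ⧸ b :=
    (GrothMatlis.torsionBaseChangeEquiv (B := B) (M := E) (maximalIdeal A)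
        (IsNoetherian.noetherian _)).symm ≪≫ₗ
      TensorProduct.AlgebraTensorModule.congr (LinearEquiv.refl B B)
        ((LinearEquiv.ofEq _ _ (GrothMatlis.socle_eq hf.toIsEssentialInj)) ≪≫ₗ
          (LinearEquiv.ofInjective f hf.injective).symm) ≪≫ₗ
      (fibreEquiv A B).symm
  obtain ⟨eκ⟩ := exists_residueField_equiv (R := B) (B ⧸ b) Ideal.Quotient.mk_surjective
  let φ : ResidueField B →ₗ[B] B ⊗[A] E :=
    (LocCoh.torsionBy b (B ⊗[A] E)).subtype ∘ₗ e.symm.toLinearMap ∘ₗ
      ι.restrictScalars B ∘ₗ eκ.toLinearMap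
  have hφ : Function.Injective φ :=
    Subtype.val_injective.comp (e.symm.injective.comp (hι.injective.comp eκ.injective))
  have hsoc : LocCoh.torsionBy (maximalIdeal B) (B ⊗[A] E) ≤ LinearMap.range φ := by
    intro x hx
    have hxb : x ∈ LocCoh.torsionBy b (B ⊗[A] E) :=
      (Submodule.mem_torsionBySet_iff _ _).2 fun r =>
        (Submodule.mem_torsionBySet_iff _ _).1 hx ⟨r, hbm r.2⟩
    have hq : e ⟨x, hxb⟩ ∈ LocCoh.torsionBy (maximalIdeal (B ⧸ b)) (B ⧸ b) := by
      rw [Submodule.mem_torsionBySet_iff]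
      rintro ⟨q, hq⟩
      obtain ⟨r, rfl⟩ := Ideal.Quotient.mk_surjective q
      have hrm : r ∈ maximalIdeal B := fun hu => hq (hu.map _)
      show Ideal.Quotient.mk b r • e ⟨x, hxb⟩ = 0
      rw [← Ideal.Quotient.algebraMap_eq, algebraMap_smul, ← map_smul,
        show r • (⟨x, hxb⟩ : LocCoh.torsionBy b (B ⊗[A] E)) = 0 from
          Subtype.ext ((Submodule.mem_torsionBySet_iff _ _).1 hx ⟨r, hrm⟩), map_zero]
    rw [GrothMatlis.socle_eq hι] at hq
    obtain ⟨t, ht⟩ := hq
    refine ⟨eκ.symm t, ?_⟩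
    show ((e.symm (ι (eκ (eκ.symm t))) : LocCoh.torsionBy b (B ⊗[A] E)) : B ⊗[A] E) = x
    rw [eκ.apply_symm_apply, ht, e.symm_apply_apply]
  haveI := GrothMatlis.isSimpleModule_residueField B
  have hrange : LocCoh.torsionBy (maximalIdeal B) (B ⊗[A] E) = LinearMap.range φ := by
    refine le_antisymm hsoc ?_
    rintro _ ⟨t, rfl⟩
    rw [Submodule.mem_torsionBySet_iff]
    rintro ⟨r, hr⟩
    show r • φ t = 0
    obtain ⟨s, rfl⟩ := IsLocalRing.residue_surjective t
    rw [← map_smul, Algebra.smul_def, IsLocalRing.ResidueField.algebraMap_eq, ← map_mul,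
      (IsLocalRing.residue_eq_zero_iff _).2 (Ideal.mul_mem_right _ _ hr), map_zero]
  have hs : IsSimpleModule B (ResidueField B →ₗ[B] B ⊗[A] E) :=
    IsSimpleModule.congr (GrothMatlis.dualQuotientEquiv (maximalIdeal B) ≪≫ₗ
      LinearEquiv.ofEq _ _ hrange ≪≫ₗ (LinearEquiv.ofInjective φ hφ).symm)
  refine GrothMatlis.hull_of_length_cofinal hpow hs (fun n => b ^ n) (fun n => ⟨N * n, ?_⟩)
    (fun k => ⟨k, Ideal.pow_right_mono hbm k⟩) fun n => ?_
  · rw [pow_mul]
    exact Ideal.pow_right_mono hN n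
  · show Module.length B (B ⧸ b ^ n) = Module.length B ((B ⧸ b ^ n) →ₗ[B] B ⊗[A] E)
    rw [hb, ← Ideal.map_pow, GrothMatlis.length_hom_quotient,
      GrothMatlis.length_torsion_baseChange hf _ (GrothMatlis.isFiniteLength_quotient_pow n),
      (Algebra.TensorProduct.quotIdealMapEquivTensorQuot B
        (maximalIdeal A ^ n)).toLinearEquiv.length_eq, IsLocalRing.length_baseChange A B]

end GrothGoren
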