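import Groth.Prelude.Def_DRing2
import Groth.Agent.Matlis.Hull
import Mathlib.Algebra.Homology.Double
import Mathlib.Algebra.Homology.SingleHomology
import Mathlib.Algebra.Homology.ShortComplex.ModuleCat
import Mathlib.Algebra.DirectSum.Finsupp
import Mathlib.LinearAlgebra.TensorProduct.Basis
import Mathlib.RingTheory.TensorProduct.Basic
import Mathlib.Algebra.Polynomial.Basis

/-!
# `A[X]`-modules which are injective over `A` have injective amplitude `[0, 1]`

Helper library (no milestone statements here): the coinduced resolution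
`0 → M → Hom_A(A[X], M) → Hom_A(A[X], M) → 0`.
-/

universe u

open CategoryTheory Limits
open scoped TensorProduct Polynomial

attribute [local instance] HasDerivedCategory.standard

namespace Groth.PolyInj

variable (A : Type u) [CommRing A] (B : Type u) [CommRing B] [Algebra A B]
  (M : Type u) [AddCommGroup M] [Module A M]

/-- The coinduced module `Hom_A(B, M)`, with `B` acting on the source. -/
def Coind : Type u := B →ₗ[A] M

noncomputable instance : AddCommGroup (Coind A B M) :=
  inferInstanceAs (AddCommGroup (B →ₗ[A] M))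

instance : FunLike (Coind A B M) B M := inferInstanceAs (FunLike (B →ₗ[A] M) B M)

variable {A B M}

instance : LinearMapClass (Coind A B M) A B M :=
  inferInstanceAs (LinearMapClass (B →ₗ[A] M) A B M)

theorem coind_ext {φ ψ : Coind A B M} (h : ∀ b, φ b = ψ b) : φ = ψ := LinearMap.ext h

noncomputable instance : Module B (Coind A B M) where
  smul q φ := (LinearMap.comp φ (LinearMap.mulLeft A q) : B →ₗ[A] M)
  one_smul φ := coind_ext fun b => congrArg φ (one_mul b)
  mul_smul p q φ := coind_ext fun b =>
    congrArg φ (show p * q * b = q * (p * b) by ring)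
  smul_zero _ := coind_ext fun _ => rfl
  smul_add _ _ _ := coind_ext fun _ => rfl
  add_smul p q φ := coind_ext fun b => by
    show (φ : B →ₗ[A] M) ((p + q) * b) = (φ : B →ₗ[A] M) (p * b) + (φ : B →ₗ[A] M) (q * b)
    rw [add_mul, map_add]
  zero_smul φ := coind_ext fun b => by
    show (φ : B →ₗ[A] M) (0 * b) = 0
    rw [zero_mul, map_zero]

theorem smul_apply (q : B) (φ : Coind A B M) (b : B) : (q • φ) b = φ (q * b) := rfl

/-- Coinduction preserves injectives. -/
theorem injective_coind (hM : Module.Injective A M) : Module.Injective B (Coind A B M) where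
  out {X Y} _ _ _ _ f hf g := by
    letI : Module A X := Module.compHom X (algebraMap A B)
    letI : Module A Y := Module.compHom Y (algebraMap A B)
    haveI : IsScalarTower A B X := ⟨fun a b x => by
      show (a • b) • x = algebraMap A B a • b • x
      rw [Algebra.smul_def, mul_smul]⟩
    haveI : IsScalarTower A B Y := ⟨fun a b x => by
      show (a • b) • x = algebraMap A B a • b • x
      rw [Algebra.smul_def, mul_smul]⟩
    let g₀ : X →ₗ[A] M :=
      { toFun := fun x => (g x : B →ₗ[A] M) 1
        map_add' := fun x y => by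
          show (g (x + y) : B →ₗ[A] M) 1 = _
          rw [map_add]
          rfl
        map_smul' := fun c x => by
          show (g (algebraMap A B c • x) : B →ₗ[A] M) 1 = c • (g x : B →ₗ[A] M) 1
          rw [map_smul, ← map_smul (g x : B →ₗ[A] M)]
          show (g x : B →ₗ[A] M) (algebraMap A B c * 1) = _
          rw [← Algebra.smul_def] }
    obtain ⟨h, hh⟩ := hM.out (f.restrictScalars A) hf g₀
    refine ⟨{ toFun := fun y => (h ∘ₗ (LinearMap.toSpanSingleton B Y y).restrictScalars A : B →ₗ[A] M)
              map_add' := fun y y' => coind_ext fun b => by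
                show h (b • (y + y')) = h (b • y) + h (b • y')
                rw [smul_add, map_add]
              map_smul' := fun q y => coind_ext fun b => by
                show h (b • q • y) = h ((q * b) • y)
                rw [smul_smul, mul_comm] }, fun x => coind_ext fun b => ?_⟩
    show h (b • f x) = (g x : B →ₗ[A] M) b
    rw [← map_smul]
    refine (hh (b • x)).trans ?_
    show (g (b • x) : B →ₗ[A] M) 1 = _
    rw [map_smul]
    show (g x : B →ₗ[A] M) (b * 1) = _
    rw [mul_one]

section poly

variable {N : Type u} [AddCommGroup N] [Module A N] [Module A[X] N] [IsScalarTower A A[X] N]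

/-- The unit `N → Hom_A(A[X], N)`. -/
noncomputable def coι : N →ₗ[A[X]] Coind A A[X] N where
  toFun n := ((LinearMap.toSpanSingleton A[X] N n).restrictScalars A : A[X] →ₗ[A] N)
  map_add' n n' := coind_ext fun b => smul_add b n n'
  map_smul' q n := coind_ext fun b => by
    show b • q • n = (q * b) • n
    rw [smul_smul, mul_comm]

theorem coι_apply (n : N) (p : A[X]) : coι n p = p • n := rfl

/-- The commutator with `X`. -/
noncomputable def coD : Coind A A[X] N →ₗ[A[X]] Coind A A[X] N where
  toFun φ := ((φ : A[X] →ₗ[A] N) ∘ₗ LinearMap.mulLeft A (Polynomial.X : A[X]) -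
    ((Polynomial.X : A[X]) • LinearMap.id : N →ₗ[A] N) ∘ₗ (φ : A[X] →ₗ[A] N) : A[X] →ₗ[A] N)
  map_add' φ ψ := coind_ext fun b => by
    show φ (Polynomial.X * b) + ψ (Polynomial.X * b) - (Polynomial.X : A[X]) • (φ b + ψ b) =
      (φ (Polynomial.X * b) - (Polynomial.X : A[X]) • φ b) +
        (ψ (Polynomial.X * b) - (Polynomial.X : A[X]) • ψ b)
    rw [smul_add]
    abel
  map_smul' q φ := coind_ext fun b => by
    show φ (q * (Polynomial.X * b)) - (Polynomial.X : A[X]) • φ (q * b) =
      φ (Polynomial.X * (q * b)) - (Polynomial.X : A[X]) • φ (q * b)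
    rw [mul_left_comm]

theorem coD_apply (φ : Coind A A[X] N) (p : A[X]) :
    coD φ p = φ (Polynomial.X * p) - (Polynomial.X : A[X]) • φ p := rfl

theorem coι_injective : Function.Injective (coι (A := A) (N := N)) := fun n n' h => by
  have := congrArg (fun φ : Coind A A[X] N => φ 1) h
  simpa [coι_apply] using this

theorem coD_coι (n : N) : coD (coι (A := A) n) = 0 := coind_ext fun p => by
  rw [coD_apply, coι_apply, coι_apply, mul_smul, sub_self]
  rfl

theorem exists_coι_eq {φ : Coind A A[X] N} (h : coD φ = 0) : ∃ n, coι n = φ := by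
  refine ⟨φ 1, coind_ext fun p => ?_⟩
  have hX : ∀ k : ℕ, φ (Polynomial.X ^ k) = (Polynomial.X ^ k : A[X]) • φ 1 := by
    intro k
    induction k with
    | zero => rw [pow_zero, one_smul]
    | succ k ih =>
      have h1 : φ (Polynomial.X * Polynomial.X ^ k) - (Polynomial.X : A[X]) • φ (Polynomial.X ^ k) = 0 :=
        congrArg (fun ψ : Coind A A[X] N => ψ (Polynomial.X ^ k)) h
      rw [sub_eq_zero] at h1
      rw [pow_succ', h1, ih, mul_smul]
  rw [coι_apply]
  induction p using Polynomial.induction_on' with
  | add a b ha hb =>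
    show (a + b) • φ 1 = (φ : A[X] →ₗ[A] N) (a + b)
    rw [add_smul, map_add, ha, hb]
  | monomial k c =>
    rw [← Polynomial.C_mul_X_pow_eq_monomial, Polynomial.C_eq_algebraMap, ← Algebra.smul_def]
    show (c • (Polynomial.X ^ k : A[X])) • φ 1 = (φ : A[X] →ₗ[A] N) (c • (Polynomial.X ^ k : A[X]))
    rw [map_smul, smul_assoc]
    exact congrArg _ (hX k).symm

theorem coD_surjective : Function.Surjective (coD (A := A) (N := N)) := by
  intro ψ
  let v : ℕ → N := fun k => k.rec 0 fun j w => ψ (Polynomial.X ^ j) + (Polynomial.X : A[X]) • w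
  let φ : Coind A A[X] N := (Polynomial.basisMonomials A).constr A v
  have hφ : ∀ k, φ (Polynomial.X ^ k) = v k := fun k => by
    have h1 : (Polynomial.X ^ k : A[X]) = Polynomial.basisMonomials A k := by
      rw [Polynomial.coe_basisMonomials]
      exact (Polynomial.monomial_one_right_eq_X_pow k).symm
    rw [h1]
    exact (Polynomial.basisMonomials A).constr_basis A v k
  refine ⟨φ, coind_ext fun p => ?_⟩
  induction p using Polynomial.induction_on' with
  | add a b ha hb =>
    rw [map_add (coD φ), map_add ψ, ha, hb]
  | monomial k c =>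
    rw [← Polynomial.C_mul_X_pow_eq_monomial, Polynomial.C_eq_algebraMap, ← Algebra.smul_def,
      map_smul (coD φ), map_smul ψ]
    have hv : v (k + 1) = ψ (Polynomial.X ^ k) + (Polynomial.X : A[X]) • v k := rfl
    rw [coD_apply, ← pow_succ', hφ, hφ, hv, add_sub_cancel_right]

variable (A N) in
/-- The coinduced resolution as a two-term complex. -/
noncomputable def coCx : DRing.Cx A[X] :=
  HomologicalComplex.double (c := ComplexShape.up ℤ) (i₀ := 0) (i₁ := 1)
    (ModuleCat.ofHom (coD (A := A) (N := N))) (by simp)

/-- An `A[X]`-module which is injective over `A` has injective amplitude `[0, 1]`. -/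
theorem hasInjAmplitudeIn (hN : Module.Injective A N) :
    DRing.HasInjAmplitudeIn A[X] 0 1 (Dual.inD A[X] N) := by
  let e₀ : (coCx A N).X 0 ≅ ModuleCat.of A[X] (Coind A A[X] N) := HomologicalComplex.doubleXIso₀ _ _
  let e₁ : (coCx A N).X 1 ≅ ModuleCat.of A[X] (Coind A A[X] N) :=
    HomologicalComplex.doubleXIso₁ _ _ (by omega)
  have hzero : ∀ i : ℤ, i ≠ 0 → i ≠ 1 → IsZero ((coCx A N).X i) := fun i h0 h1 =>
    HomologicalComplex.isZero_double_X _ _ i h0 h1
  have hd : ∀ x, e₁.hom ((coCx A N).d 0 1 x) = coD (e₀.hom x) := fun x => by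
    have hdd : (coCx A N).d 0 1 = e₀.hom ≫ ModuleCat.ofHom (coD (A := A) (N := N)) ≫ e₁.inv :=
      HomologicalComplex.double_d _ _ (by omega)
    rw [hdd]
    exact e₁.toLinearEquiv.apply_symm_apply (coD (e₀.hom x))
  have hJ := injective_coind (A := A) (B := A[X]) hN
  refine ⟨coCx A N, fun i hi => hzero i (by omega) (by omega), fun i => ?_, ⟨?_⟩⟩
  · rcases eq_or_ne i 0 with rfl | h0
    · exact GrothMatlis.injective_of_equiv hJ e₀.toLinearEquiv
    rcases eq_or_ne i 1 with rfl | h1
    · exact GrothMatlis.injective_of_equiv hJ e₁.toLinearEquiv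
    · haveI := ModuleCat.subsingleton_of_isZero (hzero i h0 h1)
      constructor
      intros
      exact ⟨0, fun _ => Subsingleton.elim _ _⟩
  · let φ₀ : ModuleCat.of A[X] N ⟶ (coCx A N).X 0 :=
      ModuleCat.ofHom (coι (A := A) (N := N)) ≫ e₀.inv
    have hφ₀ : ∀ k : ℤ, (ComplexShape.up ℤ).Rel 0 k → φ₀ ≫ (coCx A N).d 0 k = 0 := by
      intro k hk
      obtain rfl : k = 1 := by
        simp at hk
        omega
      refine ModuleCat.hom_ext (LinearMap.ext fun n => e₁.toLinearEquiv.injective ?_)
      show e₁.hom ((coCx A N).d 0 1 (e₀.inv (coι (A := A) n))) = e₁.hom 0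
      rw [hd, map_zero]
      refine Eq.trans (congrArg coD ?_) (coD_coι n)
      exact e₀.toLinearEquiv.apply_symm_apply (coι (A := A) n)
    let Φ := HomologicalComplex.mkHomFromSingle φ₀ hφ₀
    haveI : QuasiIso Φ := by
      refine ⟨fun i => ?_⟩
      rcases eq_or_ne i 0 with rfl | h0
      · rw [quasiIsoAt_iff' Φ (-1) 0 1 (by simp) (by simp), ShortComplex.quasiIso_iff_of_zeros]
        · constructor
          · rw [ShortComplex.moduleCat_exact_iff]
            intro x hx
            have h1 : coD (e₀.hom x) = 0 := by
              have hx0 : (coCx A N).d 0 1 x = 0 := hx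
              rw [← hd, hx0, map_zero]
            obtain ⟨n, hn⟩ := exists_coι_eq h1
            refine ⟨(HomologicalComplex.singleObjXSelf (ComplexShape.up ℤ) (0 : ℤ) (ModuleCat.of A[X] N)).inv n, ?_⟩
            show Φ.f 0 _ = x
            rw [HomologicalComplex.mkHomFromSingle_f, ← ConcreteCategory.comp_apply,
              Iso.inv_hom_id_assoc]
            show e₀.inv (coι (A := A) n) = x
            rw [hn]
            exact e₀.toLinearEquiv.symm_apply_apply x
          · show Mono (Φ.f 0)
            haveI : Mono (ModuleCat.ofHom (coι (A := A) (N := N))) :=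
              (ModuleCat.mono_iff_injective _).2 coι_injective
            rw [HomologicalComplex.mkHomFromSingle_f]
            infer_instance
        · exact (HomologicalComplex.isZero_single_obj_X (ComplexShape.up ℤ) (0 : ℤ)
            (ModuleCat.of A[X] N) (-1) (by omega)).eq_of_src _ _
        · exact (HomologicalComplex.isZero_single_obj_X (ComplexShape.up ℤ) (0 : ℤ)
            (ModuleCat.of A[X] N) 1 (by omega)).eq_of_tgt _ _
        · exact (hzero (-1) (by omega) (by omega)).eq_of_src _ _
      · rw [quasiIsoAt_iff_exactAt Φ i (HomologicalComplex.exactAt_single_obj (ComplexShape.up ℤ) 0 (ModuleCat.of A[X] N) i h0)]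
        rcases eq_or_ne i 1 with rfl | h1
        · rw [HomologicalComplex.exactAt_iff' _ 0 1 2 (by simp) (by simp),
            ShortComplex.moduleCat_exact_iff]
          intro x _
          obtain ⟨φ, hφ⟩ := coD_surjective (e₁.hom x)
          refine ⟨e₀.inv φ, e₁.toLinearEquiv.injective ?_⟩
          show e₁.hom ((coCx A N).d 0 1 (e₀.inv φ)) = e₁.hom x
          rw [hd]
          refine Eq.trans (congrArg coD ?_) hφ
          exact e₀.toLinearEquiv.apply_symm_apply φ
        · exact ShortComplex.exact_of_isZero_X₂ _ (hzero i h0 h1)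
    exact (asIso (DerivedCategory.Q.map Φ)).symm ≪≫
      ((DerivedCategory.singleFunctorIsoCompQ (ModuleCat.{u} A[X]) 0).app _).symm

end poly

/-- Base change to `A[X]` of an injective module over a Noetherian ring is injective over `A`. -/
theorem injective_baseChange [IsNoetherianRing A] {E : Type u} [AddCommGroup E] [Module A E]
    (hE : Module.Injective A E) : Module.Injective A (A[X] ⊗[A] E) := by
  classical
  let b := (Polynomial.basisMonomials A).reindex Equiv.ulift.{u}.symm
  exact GrothMatlis.injective_of_equiv
    (GrothMatlis.directSum_injective (fun _ : ULift.{u} ℕ => E) fun _ => hE)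
    ((TensorProduct.equivFinsuppOfBasisLeft b).trans (finsuppLEquivDirectSum A E (ULift.{u} ℕ)))

end Groth.PolyInj
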