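import Groth.Agent.FlatmorThree.FiniteFreeResolution
import Groth.Agent.Gorenstein.Basic
import Groth.Agent.KoszulCone.LocalCoh
import Mathlib.CategoryTheory.Monoidal.Tor
import Mathlib.Algebra.Category.ModuleCat.Monoidal.Closed
import Mathlib.LinearAlgebra.TensorProduct.Pi

/-!
# `Tor` against an injective module is the dual of `Ext`

Helper library (no milestone statements here): `Tor_n(E, M) ≅ Hom(Ext^n(M, A), E)` for a finite
module `M` over a Noetherian ring and an injective module `E`.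
-/

universe u

open CategoryTheory MonoidalCategory Limits TensorProduct

namespace Groth.TorDual

variable {A : Type u} [CommRing A] {E : Type u} [AddCommGroup E] [Module A E]

/-- `E ⊗ F → Hom(Hom(F, A), E)`. -/
noncomputable def θ (F : Type u) [AddCommGroup F] [Module A F] :
    E ⊗[A] F →ₗ[A] ((F →ₗ[A] A) →ₗ[A] E) :=
  TensorProduct.lift (LinearMap.mk₂ A
    (fun e p => (LinearMap.toSpanSingleton A E e).comp (LinearMap.applyₗ p))
    (fun e e' p => LinearMap.ext fun φ => smul_add (φ p) e e')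
    (fun c e p => LinearMap.ext fun φ => smul_comm (φ p) c e)
    (fun e p p' => LinearMap.ext fun φ => by
      show (φ (p + p')) • e = φ p • e + φ p' • e
      rw [map_add, add_smul])
    fun c e p => LinearMap.ext fun φ => by
      show (φ (c • p)) • e = c • (φ p • e)
      rw [map_smul, smul_assoc])

theorem θ_tmul (F : Type u) [AddCommGroup F] [Module A F] (e : E) (p : F) (φ : F →ₗ[A] A) :
    θ F (e ⊗ₜ[A] p) φ = φ p • e := rfl

theorem θ_natural {F F' : Type u} [AddCommGroup F] [Module A F] [AddCommGroup F'] [Module A F']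
    (δ : F →ₗ[A] F') (z : E ⊗[A] F) (φ : F' →ₗ[A] A) :
    θ F' (δ.lTensor E z) φ = θ F z (φ ∘ₗ δ) := by
  induction z using TensorProduct.induction_on with
  | zero => simp
  | tmul e p => rw [LinearMap.lTensor_tmul, θ_tmul, θ_tmul]; rfl
  | add a b ha hb => simp only [map_add, LinearMap.add_apply, ha, hb]

theorem θ_bijective (r : ℕ) : Function.Bijective (θ (A := A) (E := E) (Fin r → A)) := by
  let Ψ : ((((Fin r → A) →ₗ[A] A)) →ₗ[A] E) →ₗ[A] (Fin r → E) :=
    LinearMap.pi fun i => LinearMap.applyₗ (LinearMap.proj i)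
  have hΨ : Function.Injective Ψ := fun ψ χ h => LinearMap.ext fun φ => by
    have hφ : φ = Finset.univ.sum fun i => φ (Pi.single i 1) • LinearMap.proj i := by
      refine LinearMap.ext fun v => ?_
      conv_lhs => rw [pi_eq_sum_univ' v]
      simp only [map_sum, map_smul, LinearMap.sum_apply, LinearMap.smul_apply, LinearMap.proj_apply,
        smul_eq_mul]
      exact Finset.sum_congr rfl fun i _ => mul_comm _ _
    rw [hφ, map_sum, map_sum]
    refine Finset.sum_congr rfl fun i _ => ?_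
    rw [map_smul, map_smul]
    exact congrArg _ (congrFun h i)
  have hcomp : ∀ z, Ψ (θ _ z) = TensorProduct.piScalarRight A A E (Fin r) z := by
    intro z
    induction z using TensorProduct.induction_on with
    | zero => simp
    | tmul e p =>
      funext i
      rw [TensorProduct.piScalarRight_apply, TensorProduct.piScalarRightHom_tmul]
      rfl
    | add a b ha hb => simp only [map_add, ha, hb]
  refine ⟨fun a b h => (TensorProduct.piScalarRight A A E (Fin r)).injective
    (by rw [← hcomp, ← hcomp, h]), fun ψ => ⟨(TensorProduct.piScalarRight A A E (Fin r)).symm (Ψ ψ),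
      hΨ ?_⟩⟩
  rw [hcomp, LinearEquiv.apply_symm_apply]

/-- The cohomology at the middle of a pair of maps. -/
def coh {C0 C1 C2 : Type u} [AddCommGroup C0] [Module A C0] [AddCommGroup C1] [Module A C1]
    [AddCommGroup C2] [Module A C2] (δ0 : C0 →ₗ[A] C1) (δ1 : C1 →ₗ[A] C2) : Type u :=
  LinearMap.ker δ1 ⧸ (LinearMap.range δ0).comap (LinearMap.ker δ1).subtype

instance {C0 C1 C2 : Type u} [AddCommGroup C0] [Module A C0] [AddCommGroup C1] [Module A C1]
    [AddCommGroup C2] [Module A C2] (δ0 : C0 →ₗ[A] C1) (δ1 : C1 →ₗ[A] C2) :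
    AddCommGroup (coh δ0 δ1) := by unfold coh; infer_instance

instance {C0 C1 C2 : Type u} [AddCommGroup C0] [Module A C0] [AddCommGroup C1] [Module A C1]
    [AddCommGroup C2] [Module A C2] (δ0 : C0 →ₗ[A] C1) (δ1 : C1 →ₗ[A] C2) :
    Module A (coh δ0 δ1) := by unfold coh; infer_instance

/-- Presentations of the middle cohomology. -/
theorem nonempty_coh_equiv {C0 C1 C2 P X : Type u} [AddCommGroup C0] [Module A C0] [AddCommGroup C1]
    [Module A C1] [AddCommGroup C2] [Module A C2] [AddCommGroup P] [Module A P] [AddCommGroup X]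
    [Module A X] (δ0 : C0 →ₗ[A] C1) (δ1 : C1 →ₗ[A] C2) (p : P →ₗ[A] C1)
    (hp : LinearMap.range p = LinearMap.ker δ1) (χ : P →ₗ[A] X) (hχ : Function.Surjective χ)
    (h : ∀ ψ, χ ψ = 0 ↔ p ψ ∈ LinearMap.range δ0) : Nonempty (coh δ0 δ1 ≃ₗ[A] X) := by
  let q : P →ₗ[A] LinearMap.ker δ1 := p.codRestrict _ fun ψ => hp ▸ ⟨ψ, rfl⟩
  have hq : Function.Surjective q := fun φ => by
    obtain ⟨ψ, hψ⟩ := hp.ge φ.2
    exact ⟨ψ, Subtype.ext hψ⟩
  exact ⟨Groth.KoszulCone.linearEquivOfKer
    (((LinearMap.range δ0).comap (LinearMap.ker δ1).subtype).mkQ ∘ₗ q) χ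
    ((Submodule.mkQ_surjective _).comp hq) hχ fun ψ => by
      rw [h]
      exact Submodule.Quotient.mk_eq_zero _⟩

/-- The homology of the dual of a complex is the dual of its homology. -/
theorem nonempty_dual_homology (hE : Module.Injective A E) (S : ShortComplex (ModuleCat.{u} A))
    {C0 C1 C2 : Type u} [AddCommGroup C0] [Module A C0] [AddCommGroup C1] [Module A C1]
    [AddCommGroup C2] [Module A C2] (δ0 : C0 →ₗ[A] C1) (δ1 : C1 →ₗ[A] C2)
    (h01 : ∀ x, δ1 (δ0 x) = 0)
    (e1 : S.X₁ ≃ₗ[A] (C2 →ₗ[A] E)) (e2 : S.X₂ ≃ₗ[A] (C1 →ₗ[A] E)) (e3 : S.X₃ ≃ₗ[A] (C0 →ₗ[A] E))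
    (hf : ∀ x, e2 (S.f x) = (e1 x) ∘ₗ δ1) (hg : ∀ x, e3 (S.g x) = (e2 x) ∘ₗ δ0) :
    Nonempty (S.homology ≅ ModuleCat.of A (coh δ0 δ1 →ₗ[A] E)) := by
  let Q := (LinearMap.range δ0).comap (LinearMap.ker δ1).subtype
  have hres : ∀ z : LinearMap.ker S.g.hom, Q ≤ LinearMap.ker ((e2 z) ∘ₗ (LinearMap.ker δ1).subtype) := by
    rintro z ⟨y, hy⟩ ⟨x, hx⟩
    replace hx : δ0 x = y := hx
    show e2 z y = 0
    rw [← hx, ← LinearMap.comp_apply, ← hg, show S.g z = 0 from z.2, map_zero, LinearMap.zero_apply]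
  let P : LinearMap.ker S.g.hom →ₗ[A] ((LinearMap.ker δ1 ⧸ Q) →ₗ[A] E) :=
    { toFun := fun z => Q.liftQ _ (hres z)
      map_add' := fun z w => Submodule.linearMap_qext _ (LinearMap.ext fun y => by
        show e2 (z.1 + w.1) (y : C1) = e2 z.1 (y : C1) + e2 w.1 (y : C1)
        rw [map_add, LinearMap.add_apply])
      map_smul' := fun c z => Submodule.linearMap_qext _ (LinearMap.ext fun y => by
        show e2 (c • z.1) (y : C1) = c • e2 z.1 (y : C1)
        rw [map_smul, LinearMap.smul_apply]) }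
  have hP : Function.Surjective P := by
    intro ψ
    obtain ⟨ψ', hψ'⟩ := hE.out (LinearMap.ker δ1).subtype Subtype.val_injective (ψ ∘ₗ Q.mkQ)
    have hz : S.g (e2.symm ψ') = 0 := by
      refine e3.injective ?_
      rw [hg, e2.apply_symm_apply, map_zero]
      refine LinearMap.ext fun x => ?_
      rw [LinearMap.comp_apply, show δ0 x = (LinearMap.ker δ1).subtype ⟨δ0 x, h01 x⟩ from rfl, hψ',
        LinearMap.comp_apply, Submodule.mkQ_apply, (Submodule.Quotient.mk_eq_zero Q).2 ⟨x, rfl⟩,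
        map_zero, LinearMap.zero_apply]
    refine ⟨⟨e2.symm ψ', hz⟩, Submodule.linearMap_qext _ (LinearMap.ext fun y => ?_)⟩
    show e2 (e2.symm ψ') (y : C1) = ψ (Q.mkQ y)
    rw [e2.apply_symm_apply]
    exact hψ' y
  have hker : ∀ z, P z = 0 ↔ z ∈ LinearMap.range S.moduleCatToCycles := by
    intro z
    constructor
    · intro hz
      have h0 : ∀ y ∈ LinearMap.ker δ1, e2 z y = 0 := fun y hy => LinearMap.congr_fun hz (Q.mkQ ⟨y, hy⟩)
      obtain ⟨χ, hχ⟩ := hE.out (LinearMap.range δ1).subtype Subtype.val_injective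
        ((LinearMap.ker δ1).liftQ (e2 z) h0 ∘ₗ δ1.quotKerEquivRange.symm.toLinearMap)
      refine ⟨e1.symm χ, Subtype.ext (e2.injective ?_)⟩
      show e2 (S.f (e1.symm χ)) = e2 z
      rw [hf, e1.apply_symm_apply]
      refine LinearMap.ext fun y => ?_
      rw [LinearMap.comp_apply]
      refine (hχ ⟨δ1 y, y, rfl⟩).trans ?_
      rw [LinearMap.comp_apply, LinearEquiv.coe_coe,
        show δ1.quotKerEquivRange.symm ⟨δ1 y, y, rfl⟩ = Submodule.Quotient.mk y from
          δ1.quotKerEquivRange_symm_apply_image y ⟨y, rfl⟩]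
      rfl
    · rintro ⟨x, rfl⟩
      refine Submodule.linearMap_qext _ (LinearMap.ext fun y => ?_)
      show e2 (S.f x) (y : C1) = 0
      rw [hf, LinearMap.comp_apply, show δ1 (y : C1) = 0 from y.2, map_zero]
  exact ⟨S.moduleCatHomologyIso ≪≫
    (Groth.KoszulCone.linearEquivOfKer (LinearMap.range S.moduleCatToCycles).mkQ P
      (Submodule.mkQ_surjective _) hP fun z => by
        rw [Submodule.mkQ_apply, Submodule.Quotient.mk_eq_zero, hker]).toModuleIso⟩

open Groth.FlatmorThree.FFRes GrothGoren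

section
variable [IsNoetherianRing A] (N : FinMod A)

/-- The dual differential. -/
noncomputable def dd (n : ℕ) : ((Fin (rk (syz N n)) → A) →ₗ[A] A) →ₗ[A]
    ((Fin (rk (syz N (n + 1))) → A) →ₗ[A] A) :=
  LinearMap.lcomp A A ((LinearMap.ker (cover (syz N n))).subtype ∘ₗ cover (syz N (n + 1)))

theorem dd_dd (n : ℕ) (φ) : dd N (n + 1) (dd N n φ) = 0 := LinearMap.ext fun v => by
  show φ ((LinearMap.ker (cover (syz N n))).subtype (cover (syz N (n + 1))
    ((LinearMap.ker (cover (syz N (n + 1)))).subtype (cover (syz N (n + 2)) v)))) = 0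
  have h : cover (syz N (n + 1)) ((LinearMap.ker (cover (syz N (n + 1)))).subtype
      (cover (syz N (n + 2)) v)) = 0 :=
    (cover (syz N (n + 2)) v).2
  exact (congrArg (fun w => φ (Subtype.val w)) h).trans (map_zero φ)

/-- Evaluation on syzygies is the cocycles. -/
theorem ker_dd (n : ℕ) : LinearMap.ker (dd N n) =
    LinearMap.range (LinearMap.lcomp A A (cover (syz N n))) := by
  ext φ
  constructor
  · intro hφ
    have h0 : ∀ v ∈ LinearMap.ker (cover (syz N n)), φ v = 0 := fun v hv => by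
      obtain ⟨w, hw⟩ := cover_surjective (syz N (n + 1)) (⟨v, hv⟩ : LinearMap.ker (cover (syz N n)))
      rw [show v = ((⟨v, hv⟩ : LinearMap.ker (cover (syz N n))) : Fin (rk (syz N n)) → A) from rfl, ← hw]
      exact LinearMap.congr_fun hφ w
    refine ⟨(LinearMap.ker (cover (syz N n))).liftQ φ h0 ∘ₗ
      ((cover (syz N n)).quotKerEquivOfSurjective (cover_surjective _)).symm.toLinearMap, ?_⟩
    refine LinearMap.ext fun v => ?_
    show (LinearMap.ker (cover (syz N n))).liftQ φ h0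
      (((cover (syz N n)).quotKerEquivOfSurjective (cover_surjective _)).symm (cover (syz N n) v)) = φ v
    rw [show ((cover (syz N n)).quotKerEquivOfSurjective (cover_surjective _)).symm (cover (syz N n) v)
        = Submodule.Quotient.mk v from (LinearEquiv.symm_apply_eq _).2 rfl]
    rfl
  · rintro ⟨ψ, rfl⟩
    refine LinearMap.ext fun v => ?_
    show ψ (cover (syz N n) ((LinearMap.ker (cover (syz N n))).subtype (cover (syz N (n + 1)) v))) = 0
    rw [show cover (syz N n) ((LinearMap.ker (cover (syz N n))).subtype (cover (syz N (n + 1)) v)) = 0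
      from (cover (syz N (n + 1)) v).2, map_zero]

/-- `Ext^(j+1)` of a syzygy is `Ext^(j+2)` of the previous one. -/
theorem nonempty_ext_syz : ∀ (k j : ℕ),
    Nonempty (Abelian.Ext (syz N k).M (ModuleCat.of A A) (j + 1) ≃ₗ[A]
      Abelian.Ext N.M (ModuleCat.of A A) (j + k + 1)) := by
  intro k
  induction k with
  | zero => exact fun j => ⟨LinearEquiv.refl _ _⟩
  | succ k ih =>
    intro j
    obtain ⟨e⟩ := ih (j + 1)
    have hS := seqCx_shortExact (LinearMap.ker (cover (syz N k))).subtype (cover (syz N k))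
      (LinearMap.exact_subtype_ker_map _) Subtype.val_injective (cover_surjective _)
    let χ : Abelian.Ext (syz N (k + 1)).M (ModuleCat.of A A) (j + 1) →ₗ[A]
        Abelian.Ext (syz N k).M (ModuleCat.of A A) (j + 1 + 1) :=
      hS.extClass.precompOfLinear A (ModuleCat.of A A) (by omega)
    have hχ : Function.Bijective χ := by
      refine ⟨(injective_iff_map_eq_zero _).2 fun x hx => ?_, fun x => ?_⟩
      · obtain ⟨y, rfl⟩ := Abelian.Ext.contravariant_sequence_exact₁ hS (ModuleCat.of A A) x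
          (n₁ := j + 1 + 1) (by omega) hx
        rw [Subsingleton.elim (h := extZ_of_projective) y 0, Abelian.Ext.comp_zero]
        rfl
      · obtain ⟨y, hy⟩ := Abelian.Ext.contravariant_sequence_exact₃ hS (ModuleCat.of A A) x
          (Subsingleton.elim (h := extZ_of_projective) _ _) (n₀ := j + 1) (by omega)
        exact ⟨y, hy⟩
    rw [show j + 1 + k + 1 = j + (k + 1) + 1 by omega] at e
    exact ⟨(LinearEquiv.ofBijective χ hχ).trans e⟩

/-- The cohomology of the dual of the resolution in degree `n + 1`. -/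
theorem nonempty_coh_succ (n : ℕ) :
    Nonempty (coh (dd N n) (dd N (n + 1)) ≃ₗ[A] Abelian.Ext N.M (ModuleCat.of A A) (n + 1)) := by
  obtain ⟨e⟩ := nonempty_ext_syz N n 0
  rw [show 0 + n + 1 = n + 1 by omega] at e
  have hS := seqCx_shortExact (LinearMap.ker (cover (syz N n))).subtype (cover (syz N n))
    (LinearMap.exact_subtype_ker_map _) Subtype.val_injective (cover_surjective _)
  let χ : ((syz N (n + 1)).M →ₗ[A] A) →ₗ[A] Abelian.Ext (syz N n).M (ModuleCat.of A A) (0 + 1) :=
    { toFun := fun ψ => hS.extClass.comp (Abelian.Ext.mk₀ (ModuleCat.ofHom ψ)) (by omega)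
      map_add' := fun ψ ψ' => (congrArg (fun t => hS.extClass.comp t (by omega))
        (Abelian.Ext.mk₀_add (ModuleCat.ofHom ψ) (ModuleCat.ofHom ψ'))).trans
          (Abelian.Ext.comp_add _ _ _ _)
      map_smul' := fun c ψ => (congrArg (fun t => hS.extClass.comp t (by omega))
        (Abelian.Ext.mk₀_smul c (ModuleCat.ofHom ψ))).trans (Abelian.Ext.comp_smul _ _ _ _) }
  have hχ : Function.Surjective χ := fun x => by
    obtain ⟨y, hy⟩ := Abelian.Ext.contravariant_sequence_exact₃ hS (ModuleCat.of A A) x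
      (Subsingleton.elim (h := extZ_of_projective) _ _) (n₀ := 0) (by omega)
    obtain ⟨g, rfl⟩ := (Abelian.Ext.mk₀_bijective _ _).2 y
    exact ⟨g.hom, hy⟩
  let p : ((syz N (n + 1)).M →ₗ[A] A) →ₗ[A] ((Fin (rk (syz N (n + 1))) → A) →ₗ[A] A) :=
    LinearMap.lcomp A A (cover (syz N (n + 1)))
  have hiff : ∀ ψ, χ ψ = 0 ↔ p ψ ∈ LinearMap.range (dd N n) := fun ψ => by
    refine Iff.symm ⟨?_, ?_⟩
    · rintro ⟨φ, hφ⟩
      show hS.extClass.comp (Abelian.Ext.mk₀ (ModuleCat.ofHom ψ)) (show 1 + 0 = 0 + 1 by omega) = 0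
      have hψ : ψ = φ ∘ₗ (LinearMap.ker (cover (syz N n))).subtype := by
        refine LinearMap.ext fun y => ?_
        obtain ⟨w, rfl⟩ := cover_surjective (syz N (n + 1)) y
        exact (LinearMap.congr_fun hφ w).symm
      subst hψ
      have hf : ModuleCat.ofHom (φ ∘ₗ (LinearMap.ker (cover (syz N n))).subtype) =
          (seqCx (LinearMap.ker (cover (syz N n))).subtype (cover (syz N n))
            (LinearMap.exact_subtype_ker_map _)).f ≫ ModuleCat.ofHom φ := rfl
      rw [hf, ← Abelian.Ext.mk₀_comp_mk₀, ← Abelian.Ext.comp_assoc _ _ _ (add_zero 1) (zero_add 0) (show 1 + 0 + 0 = 0 + 1 by omega),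
        hS.extClass_comp, Abelian.Ext.zero_comp]
    · intro h
      obtain ⟨y, hy⟩ := Abelian.Ext.contravariant_sequence_exact₁ hS (ModuleCat.of A A)
        (Abelian.Ext.mk₀ (ModuleCat.ofHom ψ)) (n₁ := 0 + 1) (by omega) h
      obtain ⟨g, rfl⟩ := (Abelian.Ext.mk₀_bijective _ _).2 y
      rw [Abelian.Ext.mk₀_comp_mk₀] at hy
      have hg := congrArg ModuleCat.Hom.hom ((Abelian.Ext.mk₀_bijective _ _).1 hy)
      refine ⟨g.hom, LinearMap.ext fun w => ?_⟩
      exact LinearMap.congr_fun hg (cover (syz N (n + 1)) w)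
  obtain ⟨ee⟩ := nonempty_coh_equiv (dd N n) (dd N (n + 1)) p (ker_dd N (n + 1)).symm χ hχ hiff
  exact ⟨ee.trans e⟩

/-- The cohomology of the dual of the resolution in degree `0`. -/
theorem nonempty_coh_zero :
    Nonempty (coh (0 : ((Fin (rk (syz N 0)) → A) →ₗ[A] A) →ₗ[A] ((Fin (rk (syz N 0)) → A) →ₗ[A] A)) (dd N 0) ≃ₗ[A]
      Abelian.Ext N.M (ModuleCat.of A A) 0) := by
  let p : (N.M →ₗ[A] A) →ₗ[A] ((Fin (rk (syz N 0)) → A) →ₗ[A] A) := LinearMap.lcomp A A (cover (syz N 0))
  have hp : Function.Injective p := fun a b h => LinearMap.ext fun y => by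
    obtain ⟨w, rfl⟩ := cover_surjective (syz N 0) y
    exact LinearMap.congr_fun h w
  let eh : (N.M →ₗ[A] A) ≃ₗ[A] (N.M ⟶ ModuleCat.of A A) :=
    { toFun := fun ψ => ModuleCat.ofHom ψ
      map_add' := fun _ _ => rfl
      map_smul' := fun _ _ => rfl
      invFun := fun g => g.hom
      left_inv := fun _ => rfl
      right_inv := fun _ => rfl }
  exact nonempty_coh_equiv _ (dd N 0) p (ker_dd N 0).symm
    (eh.trans Abelian.Ext.linearEquiv₀.symm).toLinearMap (LinearEquiv.surjective _) fun ψ => by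
      rw [LinearMap.range_zero, Submodule.mem_bot, LinearEquiv.coe_coe, LinearEquiv.map_eq_zero_iff,
        map_eq_zero_iff p hp]

/-- `Tor_n(E, M) ≅ Hom(Ext^n(M, A), E)`. -/
theorem nonempty_tor_iso (hE : Module.Injective A E) (n : ℕ) :
    Nonempty ((((Tor (ModuleCat.{u} A) n).obj (ModuleCat.of A E)).obj N.M) ≅
      ModuleCat.of A (Abelian.Ext N.M (ModuleCat.of A A) n →ₗ[A] E)) := by
  let P := resolution N
  let F := (tensoringLeft (ModuleCat.{u} A)).obj (ModuleCat.of A E)
  let T : ChainComplex (ModuleCat.{u} A) ℕ := (F.mapHomologicalComplex _).obj P.complex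
  let i0 : ((((Tor (ModuleCat.{u} A) n).obj (ModuleCat.of A E)).obj N.M)) ≅ T.homology n :=
    P.isoLeftDerivedObj F n
  let eX : ∀ k, T.X k ≃ₗ[A] (((Fin (rk (syz N k)) → A) →ₗ[A] A) →ₗ[A] E) := fun k =>
    LinearEquiv.ofBijective (θ (A := A) (E := E) (Fin (rk (syz N k)) → A)) (θ_bijective _)
  have hd : ∀ k (x : T.X (k + 1)), eX k (T.d (k + 1) k x) = (eX (k + 1) x) ∘ₗ dd N k := by
    intro k x
    have hTd : T.d (k + 1) k = ModuleCat.of A E ◁ diff N k := by
      show ModuleCat.of A E ◁ (complex N).d (k + 1) k = _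
      rw [complex_d]
      rfl
    rw [hTd]
    exact LinearMap.ext fun φ => θ_natural _ x φ
  cases n with
  | zero =>
    obtain ⟨ec⟩ := nonempty_coh_zero N
    obtain ⟨i2⟩ := nonempty_dual_homology hE (T.sc' 1 0 0)
      (0 : ((Fin (rk (syz N 0)) → A) →ₗ[A] A) →ₗ[A] ((Fin (rk (syz N 0)) → A) →ₗ[A] A)) (dd N 0)
      (fun _ => map_zero _) (eX 1) (eX 0) (eX 0) (hd 0) (fun x => by
        show eX 0 (T.d 0 0 x) = _
        rw [T.shape 0 0 (by simp)]
        exact (map_zero _).trans (LinearMap.comp_zero _).symm)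
    exact ⟨i0 ≪≫ T.homologyIsoSc' 1 0 0 (by simp) (by simp) ≪≫ i2 ≪≫
      (LinearEquiv.congrLeft (M := E) A ec).toModuleIso⟩
  | succ m =>
    obtain ⟨ec⟩ := nonempty_coh_succ N m
    obtain ⟨i2⟩ := nonempty_dual_homology hE (T.sc' (m + 1 + 1) (m + 1) m) (dd N m) (dd N (m + 1))
      (fun x => dd_dd N m x) (eX (m + 1 + 1)) (eX (m + 1)) (eX m) (hd (m + 1)) (hd m)
    exact ⟨i0 ≪≫ T.homologyIsoSc' (m + 1 + 1) (m + 1) m (by simp) (by simp) ≪≫ i2 ≪≫
      (LinearEquiv.congrLeft (M := E) A ec).toModuleIso⟩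

end

end Groth.TorDual
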